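import Mathlib
import Groth.Agent.Lib.Helper9.TameBC

/-!
# Composita of a finite separable extension with an arbitrary extension (helper9)
-/

universe u

open TensorProduct

namespace Groth.Agent.Lib.Helper9.AbhAbs

set_option maxHeartbeats 1000000 in
/-- A field generated over `KB` by the image of a finite separable extension `L / K` is finite
separable over `KB`. -/
theorem finsep_of_generated (K KB L M : Type u) [Field K] [Field KB] [Field L] [Field M]
    [Algebra K KB] [Algebra K L] [FiniteDimensional K L] [Algebra.IsSeparable K L] [Algebra KB M]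
    (i : L →+* M)
    (hcompat : i.comp (algebraMap K L) = (algebraMap KB M).comp (algebraMap K KB))
    (hgen : ∀ E : Subfield M, Set.range i ⊆ E → Set.range (algebraMap KB M) ⊆ E → E = ⊤) :
    FiniteDimensional KB M ∧ Algebra.IsSeparable KB M := by
  classical
  letI algKM : Algebra K M := ((algebraMap KB M).comp (algebraMap K KB)).toAlgebra
  haveI : IsScalarTower K KB M := IsScalarTower.of_algebraMap_eq (fun _ => rfl)
  let iA : L →ₐ[K] M := { toRingHom := i, commutes' := fun k => RingHom.congr_fun hcompat k }
  let ψ : KB ⊗[K] L →ₐ[KB] M :=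
    Algebra.TensorProduct.lift (Algebra.ofId KB M) iA (fun _ _ => mul_comm _ _)
  have hψ1 : ∀ b : KB, ψ (b ⊗ₜ 1) = algebraMap KB M b := by
    intro b
    simp [ψ, Algebra.ofId_apply]
  have hψ2 : ∀ l : L, ψ (1 ⊗ₜ l) = i l := by
    intro l
    simp [ψ, iA]
  -- the range is a field
  haveI : Module.Finite KB (KB ⊗[K] L) := inferInstance
  haveI hfinr : Module.Finite KB ψ.range :=
    Module.Finite.of_surjective ψ.rangeRestrict.toLinearMap ψ.rangeRestrict_surjective
  haveI : IsArtinianRing ψ.range := IsArtinianRing.of_finite KB _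
  have hfield : IsField ψ.range := IsArtinianRing.isField_of_isDomain _
  let E : Subfield M :=
    { ψ.range.toSubring with
      inv_mem' := by
        intro x hx
        by_cases hx0 : x = 0
        · rw [hx0, inv_zero]
          exact ψ.range.zero_mem
        · obtain ⟨y, hy⟩ := hfield.mul_inv_cancel (a := ⟨x, hx⟩) (fun h => hx0 (congrArg Subtype.val h))
          have h1 : x * (y : M) = 1 := congrArg Subtype.val hy
          have h2 : x⁻¹ = (y : M) := inv_eq_of_mul_eq_one_right h1
          rw [h2]
          exact y.2 }
  have hE : E = ⊤ := by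
    apply hgen
    · rintro _ ⟨l, rfl⟩
      exact ⟨1 ⊗ₜ l, hψ2 l⟩
    · rintro _ ⟨b, rfl⟩
      exact ⟨b ⊗ₜ 1, hψ1 b⟩
  have hsurj : Function.Surjective ψ := by
    intro x
    have hx : x ∈ E := by rw [hE]; trivial
    exact hx
  exact Groth.Agent.Lib.Helper9.TameBC.finite_separable_of_quotient K KB L M ψ hsurj

end Groth.Agent.Lib.Helper9.AbhAbs
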