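import Mathlib
import Groth.Prelude.Def_EtRam

/-!
# Localizations of a domain at primes, inside a field (helper9)

Context instances used to apply the DVR-level ramification theorems to the localizations
`R_𝔭` of a domain `R`, with fraction field `FractionRing R`, and to fields `L` over `R`.
-/

universe u

open IsLocalRing

namespace Groth.Agent.Lib.Helper9.AbhAbs

section LocLift

variable (R : Type u) [CommRing R] [IsDomain R] (L : Type u) [Field L] [Algebra R L]
  [FaithfulSMul R L]

theorem isUnit_algebraMap_of_primeCompl (𝔭 : Ideal R) [𝔭.IsPrime] (y : 𝔭.primeCompl) :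
    IsUnit (algebraMap R L y) := by
  rw [isUnit_iff_ne_zero, ne_eq, map_eq_zero_iff _ (FaithfulSMul.algebraMap_injective R L)]
  intro h
  exact y.2 (h ▸ 𝔭.zero_mem)

/-- the canonical map `R_𝔭 → L` for a field `L` containing `R`. -/
noncomputable def locLift (𝔭 : Ideal R) [𝔭.IsPrime] : Localization.AtPrime 𝔭 →+* L :=
  IsLocalization.lift (M := 𝔭.primeCompl) (isUnit_algebraMap_of_primeCompl R L 𝔭)

theorem locLift_algebraMap (𝔭 : Ideal R) [𝔭.IsPrime] (a : R) :
    locLift R L 𝔭 (algebraMap R (Localization.AtPrime 𝔭) a) = algebraMap R L a :=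
  IsLocalization.lift_eq _ a

theorem locLift_injective (𝔭 : Ideal R) [𝔭.IsPrime] : Function.Injective (locLift R L 𝔭) := by
  have hinj : Function.Injective (algebraMap R (Localization.AtPrime 𝔭)) :=
    IsLocalization.injective _ (Ideal.primeCompl_le_nonZeroDivisors 𝔭)
  unfold locLift
  rw [IsLocalization.lift_injective_iff]
  intro x y
  constructor
  · intro h
    rw [hinj h]
  · intro h
    rw [FaithfulSMul.algebraMap_injective R L h]

/-- two ring homs out of `R_𝔭` agreeing on `R` are equal. -/
theorem locRingHom_ext (𝔭 : Ideal R) [𝔭.IsPrime] {S : Type*} [Semiring S]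
    (f g : Localization.AtPrime 𝔭 →+* S)
    (h : ∀ a : R, f (algebraMap R _ a) = g (algebraMap R _ a)) : f = g :=
  IsLocalization.ringHom_ext 𝔭.primeCompl (RingHom.ext h)

end LocLift

end Groth.Agent.Lib.Helper9.AbhAbs
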