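import Mathlib
import Groth.Prelude.Def_EtRam
import Groth.Agent.Lib.Helper9.AbhAbs.Ctx
import Groth.Agent.S9306
import Groth.Agent.Lib.Helper9.TameBC
import Groth.Agent.Lib.Helper9.AbhAbs.Compositum

/-!
# Base change of unramified / tame extensions along localizations of an extension of domains
(helper9)
-/

universe u

open IsLocalRing EtRam

namespace Groth.Agent.Lib.Helper9.AbhAbs

section BaseChange

variable (R R' : Type u) [CommRing R] [IsDomain R] [CommRing R'] [IsDomain R'] [Algebra R R']
  [FaithfulSMul R R']
  (𝔭 : Ideal R) [𝔭.IsPrime] (𝔓 : Ideal R') [𝔓.IsPrime] [𝔓.LiesOver 𝔭]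
  [IsDiscreteValuationRing (Localization.AtPrime 𝔭)]
  [IsDiscreteValuationRing (Localization.AtPrime 𝔓)]
  (L : Type u) [Field L] [Algebra R L] [FaithfulSMul R L]
  (M : Type u) [Field M] [Algebra R' M] [FaithfulSMul R' M]
  (i : L →+* M) (hcompat : ∀ a : R, i (algebraMap R L a) = algebraMap R' M (algebraMap R R' a))
  (hgen : ∀ E : Subfield M, Set.range i ⊆ E → Set.range (algebraMap R' M) ⊆ E → E = ⊤)
  (hfin : letI := FractionRing.liftAlgebra R L; FiniteDimensional (FractionRing R) L)
  (hsep : letI := FractionRing.liftAlgebra R L; Algebra.IsSeparable (FractionRing R) L)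

include hcompat hgen hfin hsep in
set_option maxHeartbeats 1000000 in
theorem unram_baseChange
    (h : IsUnramifiedExt (Localization.AtPrime 𝔭) (locLift R L 𝔭)) :
    IsUnramifiedExt (Localization.AtPrime 𝔓) (locLift R' M 𝔓) := by
  classical
  letI algAB : Algebra (Localization.AtPrime 𝔭) (Localization.AtPrime 𝔓) :=
    Localization.AtPrime.algebraOfLiesOver 𝔭 𝔓
  haveI : IsLocalHom (algebraMap (Localization.AtPrime 𝔭) (Localization.AtPrime 𝔓)) :=
    Localization.isLocalHom_localRingHom 𝔭 𝔓 (algebraMap R R') Ideal.LiesOver.over
  letI algAK : Algebra (Localization.AtPrime 𝔭) (FractionRing R) :=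
    (locLift R (FractionRing R) 𝔭).toAlgebra
  haveI towRAK : IsScalarTower R (Localization.AtPrime 𝔭) (FractionRing R) :=
    IsScalarTower.of_algebraMap_eq (fun a => (locLift_algebraMap R (FractionRing R) 𝔭 a).symm)
  haveI : IsFractionRing (Localization.AtPrime 𝔭) (FractionRing R) :=
    IsFractionRing.isFractionRing_of_isDomain_of_isLocalization 𝔭.primeCompl _ _
  letI algBKB : Algebra (Localization.AtPrime 𝔓) (FractionRing R') :=
    (locLift R' (FractionRing R') 𝔓).toAlgebra
  haveI towRBK : IsScalarTower R' (Localization.AtPrime 𝔓) (FractionRing R') :=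
    IsScalarTower.of_algebraMap_eq (fun a => (locLift_algebraMap R' (FractionRing R') 𝔓 a).symm)
  haveI : IsFractionRing (Localization.AtPrime 𝔓) (FractionRing R') :=
    IsFractionRing.isFractionRing_of_isDomain_of_isLocalization 𝔓.primeCompl _ _
  haveI : FaithfulSMul R (FractionRing R') :=
    (faithfulSMul_iff_algebraMap_injective R (FractionRing R')).mpr (by
      rw [IsScalarTower.algebraMap_eq R R' (FractionRing R')]
      exact (IsFractionRing.injective R' (FractionRing R')).comp
        (FaithfulSMul.algebraMap_injective R R'))
  letI algKKB : Algebra (FractionRing R) (FractionRing R') :=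
    FractionRing.liftAlgebra R (FractionRing R')
  letI algAKB : Algebra (Localization.AtPrime 𝔭) (FractionRing R') :=
    (locLift R (FractionRing R') 𝔭).toAlgebra
  haveI towAKKB : IsScalarTower (Localization.AtPrime 𝔭) (FractionRing R) (FractionRing R') := by
    apply IsScalarTower.of_algebraMap_eq'
    apply locRingHom_ext R 𝔭
    intro a
    rw [RingHom.comp_apply, ← IsScalarTower.algebraMap_apply R (Localization.AtPrime 𝔭) (FractionRing R),
      ← IsScalarTower.algebraMap_apply R (FractionRing R) (FractionRing R')]
    exact locLift_algebraMap R (FractionRing R') 𝔭 a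
  haveI towABKB : IsScalarTower (Localization.AtPrime 𝔭) (Localization.AtPrime 𝔓)
      (FractionRing R') := by
    apply IsScalarTower.of_algebraMap_eq'
    apply locRingHom_ext R 𝔭
    intro a
    rw [RingHom.comp_apply]
    have h1 : algebraMap (Localization.AtPrime 𝔭) (Localization.AtPrime 𝔓)
        (algebraMap R (Localization.AtPrime 𝔭) a) =
        algebraMap R' (Localization.AtPrime 𝔓) (algebraMap R R' a) :=
      Localization.localRingHom_to_map 𝔭 𝔓 (algebraMap R R') Ideal.LiesOver.over a
    rw [h1, ← IsScalarTower.algebraMap_apply R' (Localization.AtPrime 𝔓) (FractionRing R'),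
      ← IsScalarTower.algebraMap_apply R R' (FractionRing R')]
    exact locLift_algebraMap R (FractionRing R') 𝔭 a
  letI algKL : Algebra (FractionRing R) L := FractionRing.liftAlgebra R L
  letI algAL : Algebra (Localization.AtPrime 𝔭) L := (locLift R L 𝔭).toAlgebra
  haveI towAKL : IsScalarTower (Localization.AtPrime 𝔭) (FractionRing R) L := by
    apply IsScalarTower.of_algebraMap_eq'
    apply locRingHom_ext R 𝔭
    intro a
    rw [RingHom.comp_apply, ← IsScalarTower.algebraMap_apply R (Localization.AtPrime 𝔭) (FractionRing R),
      ← IsScalarTower.algebraMap_apply R (FractionRing R) L]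
    exact locLift_algebraMap R L 𝔭 a
  haveI : FiniteDimensional (FractionRing R) L := hfin
  haveI : Algebra.IsSeparable (FractionRing R) L := hsep
  letI algKBM : Algebra (FractionRing R') M := FractionRing.liftAlgebra R' M
  have hcompat' : i.comp (algebraMap (FractionRing R) L) =
      (algebraMap (FractionRing R') M).comp (algebraMap (FractionRing R) (FractionRing R')) := by
    apply IsLocalization.ringHom_ext (nonZeroDivisors R)
    ext a
    rw [RingHom.comp_apply, RingHom.comp_apply, RingHom.comp_apply, RingHom.comp_apply,
      ← IsScalarTower.algebraMap_apply R (FractionRing R) L, hcompat,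
      ← IsScalarTower.algebraMap_apply R (FractionRing R) (FractionRing R'),
      IsScalarTower.algebraMap_apply R R' (FractionRing R'),
      ← IsScalarTower.algebraMap_apply R' (FractionRing R') M]
  have hgen' : ∀ E : Subfield M, Set.range i ⊆ E →
      Set.range (algebraMap (FractionRing R') M) ⊆ E → E = ⊤ := by
    intro E h1 h2
    apply hgen E h1
    rintro _ ⟨b, rfl⟩
    apply h2
    exact ⟨algebraMap R' (FractionRing R') b,
      (IsScalarTower.algebraMap_apply R' (FractionRing R') M b).symm⟩
  have key := Groth.Agent.S9306.core (Localization.AtPrime 𝔭) (Localization.AtPrime 𝔓)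
    (FractionRing R) (FractionRing R') L M h i (algebraMap (FractionRing R') M) hcompat' hgen'
  have heq : (algebraMap (FractionRing R') M).comp
      (algebraMap (Localization.AtPrime 𝔓) (FractionRing R')) = locLift R' M 𝔓 := by
    apply locRingHom_ext R' 𝔓
    intro b
    rw [RingHom.comp_apply, ← IsScalarTower.algebraMap_apply R' (Localization.AtPrime 𝔓)
      (FractionRing R'), ← IsScalarTower.algebraMap_apply R' (FractionRing R') M]
    exact (locLift_algebraMap R' M 𝔓 b).symm
  rw [heq] at key
  exact key

include hcompat hgen hfin hsep in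
set_option maxHeartbeats 1000000 in
theorem tame_baseChange
    (hfinM : letI := FractionRing.liftAlgebra R' M; FiniteDimensional (FractionRing R') M)
    (hsepM : letI := FractionRing.liftAlgebra R' M; Algebra.IsSeparable (FractionRing R') M)
    (h : IsTamelyRamified (Localization.AtPrime 𝔭) (locLift R L 𝔭)) :
    IsTamelyRamified (Localization.AtPrime 𝔓) (locLift R' M 𝔓) := by
  classical
  letI algAB : Algebra (Localization.AtPrime 𝔭) (Localization.AtPrime 𝔓) :=
    Localization.AtPrime.algebraOfLiesOver 𝔭 𝔓
  haveI : IsLocalHom (algebraMap (Localization.AtPrime 𝔭) (Localization.AtPrime 𝔓)) :=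
    Localization.isLocalHom_localRingHom 𝔭 𝔓 (algebraMap R R') Ideal.LiesOver.over
  letI algAK : Algebra (Localization.AtPrime 𝔭) (FractionRing R) :=
    (locLift R (FractionRing R) 𝔭).toAlgebra
  haveI towRAK : IsScalarTower R (Localization.AtPrime 𝔭) (FractionRing R) :=
    IsScalarTower.of_algebraMap_eq (fun a => (locLift_algebraMap R (FractionRing R) 𝔭 a).symm)
  haveI : IsFractionRing (Localization.AtPrime 𝔭) (FractionRing R) :=
    IsFractionRing.isFractionRing_of_isDomain_of_isLocalization 𝔭.primeCompl _ _
  letI algBKB : Algebra (Localization.AtPrime 𝔓) (FractionRing R') :=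
    (locLift R' (FractionRing R') 𝔓).toAlgebra
  haveI towRBK : IsScalarTower R' (Localization.AtPrime 𝔓) (FractionRing R') :=
    IsScalarTower.of_algebraMap_eq (fun a => (locLift_algebraMap R' (FractionRing R') 𝔓 a).symm)
  haveI : IsFractionRing (Localization.AtPrime 𝔓) (FractionRing R') :=
    IsFractionRing.isFractionRing_of_isDomain_of_isLocalization 𝔓.primeCompl _ _
  haveI : FaithfulSMul R (FractionRing R') :=
    (faithfulSMul_iff_algebraMap_injective R (FractionRing R')).mpr (by
      rw [IsScalarTower.algebraMap_eq R R' (FractionRing R')]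
      exact (IsFractionRing.injective R' (FractionRing R')).comp
        (FaithfulSMul.algebraMap_injective R R'))
  letI algKKB : Algebra (FractionRing R) (FractionRing R') :=
    FractionRing.liftAlgebra R (FractionRing R')
  letI algAKB : Algebra (Localization.AtPrime 𝔭) (FractionRing R') :=
    (locLift R (FractionRing R') 𝔭).toAlgebra
  haveI towAKKB : IsScalarTower (Localization.AtPrime 𝔭) (FractionRing R) (FractionRing R') := by
    apply IsScalarTower.of_algebraMap_eq'
    apply locRingHom_ext R 𝔭
    intro a
    rw [RingHom.comp_apply, ← IsScalarTower.algebraMap_apply R (Localization.AtPrime 𝔭) (FractionRing R),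
      ← IsScalarTower.algebraMap_apply R (FractionRing R) (FractionRing R')]
    exact locLift_algebraMap R (FractionRing R') 𝔭 a
  haveI towABKB : IsScalarTower (Localization.AtPrime 𝔭) (Localization.AtPrime 𝔓)
      (FractionRing R') := by
    apply IsScalarTower.of_algebraMap_eq'
    apply locRingHom_ext R 𝔭
    intro a
    rw [RingHom.comp_apply]
    have h1 : algebraMap (Localization.AtPrime 𝔭) (Localization.AtPrime 𝔓)
        (algebraMap R (Localization.AtPrime 𝔭) a) =
        algebraMap R' (Localization.AtPrime 𝔓) (algebraMap R R' a) :=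
      Localization.localRingHom_to_map 𝔭 𝔓 (algebraMap R R') Ideal.LiesOver.over a
    rw [h1, ← IsScalarTower.algebraMap_apply R' (Localization.AtPrime 𝔓) (FractionRing R'),
      ← IsScalarTower.algebraMap_apply R R' (FractionRing R')]
    exact locLift_algebraMap R (FractionRing R') 𝔭 a
  letI algKL : Algebra (FractionRing R) L := FractionRing.liftAlgebra R L
  letI algAL : Algebra (Localization.AtPrime 𝔭) L := (locLift R L 𝔭).toAlgebra
  haveI towAKL : IsScalarTower (Localization.AtPrime 𝔭) (FractionRing R) L := by
    apply IsScalarTower.of_algebraMap_eq'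
    apply locRingHom_ext R 𝔭
    intro a
    rw [RingHom.comp_apply, ← IsScalarTower.algebraMap_apply R (Localization.AtPrime 𝔭) (FractionRing R),
      ← IsScalarTower.algebraMap_apply R (FractionRing R) L]
    exact locLift_algebraMap R L 𝔭 a
  haveI : FiniteDimensional (FractionRing R) L := hfin
  haveI : Algebra.IsSeparable (FractionRing R) L := hsep
  letI algKBM : Algebra (FractionRing R') M := FractionRing.liftAlgebra R' M
  haveI : FiniteDimensional (FractionRing R') M := hfinM
  haveI : Algebra.IsSeparable (FractionRing R') M := hsepM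
  letI algBM : Algebra (Localization.AtPrime 𝔓) M := (locLift R' M 𝔓).toAlgebra
  haveI towBKBM : IsScalarTower (Localization.AtPrime 𝔓) (FractionRing R') M := by
    apply IsScalarTower.of_algebraMap_eq'
    apply locRingHom_ext R' 𝔓
    intro b
    rw [RingHom.comp_apply, ← IsScalarTower.algebraMap_apply R' (Localization.AtPrime 𝔓)
      (FractionRing R'), ← IsScalarTower.algebraMap_apply R' (FractionRing R') M]
    exact locLift_algebraMap R' M 𝔓 b
  have hcompat' : i.comp (algebraMap (FractionRing R) L) =
      (algebraMap (FractionRing R') M).comp (algebraMap (FractionRing R) (FractionRing R')) := by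
    apply IsLocalization.ringHom_ext (nonZeroDivisors R)
    ext a
    rw [RingHom.comp_apply, RingHom.comp_apply, RingHom.comp_apply, RingHom.comp_apply,
      ← IsScalarTower.algebraMap_apply R (FractionRing R) L, hcompat,
      ← IsScalarTower.algebraMap_apply R (FractionRing R) (FractionRing R'),
      IsScalarTower.algebraMap_apply R R' (FractionRing R'),
      ← IsScalarTower.algebraMap_apply R' (FractionRing R') M]
  have hgen' : ∀ E : Subfield M, Set.range i ⊆ E →
      Set.range (algebraMap (FractionRing R') M) ⊆ E → E = ⊤ := by
    intro E h1 h2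
    apply hgen E h1
    rintro _ ⟨b, rfl⟩
    apply h2
    exact ⟨algebraMap R' (FractionRing R') b,
      (IsScalarTower.algebraMap_apply R' (FractionRing R') M b).symm⟩
  have hinjAB : Function.Injective
      (algebraMap (Localization.AtPrime 𝔭) (Localization.AtPrime 𝔓)) := by
    intro x y hxy
    apply locLift_injective R (FractionRing R') 𝔭
    have h1 := congrArg (algebraMap (Localization.AtPrime 𝔓) (FractionRing R')) hxy
    rw [← IsScalarTower.algebraMap_apply, ← IsScalarTower.algebraMap_apply] at h1
    exact h1
  exact Groth.Agent.Lib.Helper9.TameBC.tame_base_change (Localization.AtPrime 𝔭)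
    (Localization.AtPrime 𝔓) (FractionRing R) (FractionRing R') L M hinjAB h i hcompat' hgen'

end BaseChange

section FinSep

variable (R R' : Type u) [CommRing R] [IsDomain R] [CommRing R'] [IsDomain R'] [Algebra R R']
  [FaithfulSMul R R']
  (L : Type u) [Field L] [Algebra R L] [FaithfulSMul R L]
  (M : Type u) [Field M] [Algebra R' M] [FaithfulSMul R' M]
  (i : L →+* M) (hcompat : ∀ a : R, i (algebraMap R L a) = algebraMap R' M (algebraMap R R' a))
  (hgen : ∀ E : Subfield M, Set.range i ⊆ E → Set.range (algebraMap R' M) ⊆ E → E = ⊤)
  (hfin : letI := FractionRing.liftAlgebra R L; FiniteDimensional (FractionRing R) L)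
  (hsep : letI := FractionRing.liftAlgebra R L; Algebra.IsSeparable (FractionRing R) L)

include hcompat hgen hfin hsep in
set_option maxHeartbeats 1000000 in
theorem finsep_baseChange :
    letI := FractionRing.liftAlgebra R' M
    FiniteDimensional (FractionRing R') M ∧ Algebra.IsSeparable (FractionRing R') M := by
  classical
  haveI : FaithfulSMul R (FractionRing R') :=
    (faithfulSMul_iff_algebraMap_injective R (FractionRing R')).mpr (by
      rw [IsScalarTower.algebraMap_eq R R' (FractionRing R')]
      exact (IsFractionRing.injective R' (FractionRing R')).comp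
        (FaithfulSMul.algebraMap_injective R R'))
  letI algKKB : Algebra (FractionRing R) (FractionRing R') :=
    FractionRing.liftAlgebra R (FractionRing R')
  letI algKL : Algebra (FractionRing R) L := FractionRing.liftAlgebra R L
  haveI : FiniteDimensional (FractionRing R) L := hfin
  haveI : Algebra.IsSeparable (FractionRing R) L := hsep
  letI algKBM : Algebra (FractionRing R') M := FractionRing.liftAlgebra R' M
  have hcompat' : i.comp (algebraMap (FractionRing R) L) =
      (algebraMap (FractionRing R') M).comp (algebraMap (FractionRing R) (FractionRing R')) := by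
    apply IsLocalization.ringHom_ext (nonZeroDivisors R)
    ext a
    rw [RingHom.comp_apply, RingHom.comp_apply, RingHom.comp_apply, RingHom.comp_apply,
      ← IsScalarTower.algebraMap_apply R (FractionRing R) L, hcompat,
      ← IsScalarTower.algebraMap_apply R (FractionRing R) (FractionRing R'),
      IsScalarTower.algebraMap_apply R R' (FractionRing R'),
      ← IsScalarTower.algebraMap_apply R' (FractionRing R') M]
  have hgen' : ∀ E : Subfield M, Set.range i ⊆ E →
      Set.range (algebraMap (FractionRing R') M) ⊆ E → E = ⊤ := by
    intro E h1 h2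
    apply hgen E h1
    rintro _ ⟨b, rfl⟩
    apply h2
    exact ⟨algebraMap R' (FractionRing R') b,
      (IsScalarTower.algebraMap_apply R' (FractionRing R') M b).symm⟩
  exact finsep_of_generated (FractionRing R) (FractionRing R') L M i hcompat' hgen'

end FinSep

end Groth.Agent.Lib.Helper9.AbhAbs
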