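import Mathlib
import Groth.Prelude.Def_EtRam
import Groth.Agent.S9306
import Groth.Agent.S9329
import Groth.Agent.Lib.Helper9.AbhyankarCore
import Groth.Agent.Lib.Helper9.AbhAbs.Compositum

/-!
# Abhyankar's lemma along an extension of discrete valuation rings containing a root of the
uniformizer (helper9)
-/

universe u

open IsLocalRing EtRam Polynomial

namespace Groth.Agent.Lib.Helper9.AbhAbs

open Groth.Agent.Lib.Helper9.AbhyankarCore

set_option maxHeartbeats 4000000 in
/-- **Abhyankar's lemma over an extension of DVRs.**  `A ⊆ B` discrete valuation rings, `π` a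
uniformizer of `A` which is an `n`-th power in `B`, `L / K` tamely ramified over `A` with all
ramification indices dividing `n`.  Then every compositum of `L` and `Frac B` is unramified over
`B`. -/
theorem abh_ext (A B K KB L M : Type u) [CommRing A] [IsDomain A] [IsDiscreteValuationRing A]
    [CommRing B] [IsDomain B] [IsDiscreteValuationRing B] [Algebra A B]
    [IsLocalHom (algebraMap A B)]
    [Field K] [Field KB] [Field L] [Field M] [Algebra A K] [IsFractionRing A K] [Algebra B KB]
    [IsFractionRing B KB] [Algebra K KB] [Algebra A KB] [IsScalarTower A K KB]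
    [IsScalarTower A B KB]
    [Algebra K L] [FiniteDimensional K L] [Algebra.IsSeparable K L] [Algebra A L]
    [IsScalarTower A K L] (h : IsTamelyRamified A (algebraMap A L))
    {π : A} (hπ : Irreducible π) (T : B) (n : ℕ) (hn : 0 < n) (hT : algebraMap A B π = T ^ n)
    (hdiv : ∀ (V : ValuationSubring L) (hdom : Dominates A (algebraMap A L) V),
      eV (algebraMap A L) V hdom ∣ n)
    (iL : L →+* M) (iKB : KB →+* M)
    (hcompat : iL.comp (algebraMap K L) = iKB.comp (algebraMap K KB))
    (hgen : ∀ E : Subfield M, Set.range iL ⊆ E → Set.range iKB ⊆ E → E = ⊤) :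
    IsUnramifiedExt B (iKB.comp (algebraMap B KB)) := by
  classical
  obtain ⟨e₀, -, -, -, hres⟩ := Groth.Agent.S9329.exists_e0 (K := K) h hπ
  obtain ⟨hmonic, hnat, hE⟩ := eisenstein_X_pow_sub_C hπ n hn
  have hpos : 0 < (X ^ n - C π : A[X]).natDegree := by rw [hnat]; exact hn
  obtain ⟨hdomA', hdvrA', hmaxA', -⟩ :=
    Eisenstein.adjoinRoot_dvr (X ^ n - C π : A[X]) hmonic hE hpos
  haveI := hdomA'
  haveI := hdvrA'
  -- compatibility on `A`
  have hAM : ∀ a : A, iL (algebraMap A L a) = iKB (algebraMap B KB (algebraMap A B a)) := by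
    intro a
    rw [IsScalarTower.algebraMap_apply A K L, ← IsScalarTower.algebraMap_apply A B KB,
      IsScalarTower.algebraMap_apply A K KB]
    exact RingHom.congr_fun hcompat (algebraMap A K a)
  -- the map `A' → B`
  have hrelB : (X ^ n - C π : A[X]).eval₂ (algebraMap A B) T = 0 := by
    rw [eval₂_sub, eval₂_pow, eval₂_X, eval₂_C, hT, sub_self]
  let φ' : AdjoinRoot (X ^ n - C π : A[X]) →+* B := AdjoinRoot.lift (algebraMap A B) T hrelB
  have hφ'of : ∀ a : A, φ' (AdjoinRoot.of _ a) = algebraMap A B a := fun a => AdjoinRoot.lift_of hrelB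
  have hφ'root : φ' (AdjoinRoot.root _) = T := AdjoinRoot.lift_root hrelB
  -- the map `A' → M`
  let g' : AdjoinRoot (X ^ n - C π : A[X]) →+* M := (iKB.comp (algebraMap B KB)).comp φ'
  have hg'of : ∀ a : A, g' (AdjoinRoot.of _ a) = iL (algebraMap A L a) := by
    intro a
    show iKB (algebraMap B KB (φ' (AdjoinRoot.of _ a))) = _
    rw [hφ'of, hAM]
  -- the subfield `E₀`
  let zM : M := g' (AdjoinRoot.root _)
  let E₀ : Subfield M := Subfield.closure (Set.range iL ∪ {zM})
  have hiLE₀ : ∀ l, iL l ∈ E₀ := fun l => Subfield.subset_closure (Or.inl ⟨l, rfl⟩)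
  have hzE₀ : zM ∈ E₀ := Subfield.subset_closure (Or.inr rfl)
  have hg'E₀ : ∀ x, g' x ∈ E₀ := by
    intro x
    induction x using AdjoinRoot.induction_on with
    | ih p =>
      induction p using Polynomial.induction_on' with
      | add p q hp hq =>
        rw [map_add, map_add]
        exact add_mem hp hq
      | monomial k a =>
        have h1 : AdjoinRoot.mk (X ^ n - C π : A[X]) (monomial k a) =
            AdjoinRoot.of _ a * AdjoinRoot.root _ ^ k := by
          rw [← C_mul_X_pow_eq_monomial, map_mul, map_pow, AdjoinRoot.mk_C, AdjoinRoot.mk_X]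
        rw [h1, map_mul, map_pow, hg'of]
        exact mul_mem (hiLE₀ _) (pow_mem hzE₀ k)
  let iL₀ : L →+* E₀ := iL.codRestrict E₀.toSubring hiLE₀
  let g'₀ : AdjoinRoot (X ^ n - C π : A[X]) →+* E₀ := g'.codRestrict E₀.toSubring hg'E₀
  have hcompat₀ : ∀ a, g'₀ (AdjoinRoot.of _ a) = iL₀ (algebraMap A L a) := by
    intro a
    apply Subtype.ext
    exact hg'of a
  have hgen₀ : ∀ E : Subfield E₀, (∀ l, iL₀ l ∈ E) → g'₀ (AdjoinRoot.root _) ∈ E → E = ⊤ := by
    intro E hE1 hE2
    have hle : E₀ ≤ E.map E₀.subtype := by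
      apply Subfield.closure_le.mpr
      rintro x (⟨l, rfl⟩ | hx)
      · exact ⟨iL₀ l, hE1 l, rfl⟩
      · rw [Set.mem_singleton_iff] at hx
        rw [hx]
        exact ⟨g'₀ (AdjoinRoot.root _), hE2, rfl⟩
    rw [eq_top_iff]
    intro x _
    obtain ⟨y, hy, hyx⟩ := hle x.2
    have : y = x := Subtype.ext hyx
    rw [← this]
    exact hy
  have hunr' : IsUnramifiedExt (AdjoinRoot (X ^ n - C π : A[X])) g'₀ :=
    unramified_of_kummer (K := K) hπ h n hn hdiv hres iL₀ g'₀ hcompat₀ hgen₀
  -- instances for `A'`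
  letI algA'B : Algebra (AdjoinRoot (X ^ n - C π : A[X])) B := φ'.toAlgebra
  haveI hlocA'B : IsLocalHom (algebraMap (AdjoinRoot (X ^ n - C π : A[X])) B) := by
    refine ⟨fun x hx => ?_⟩
    by_contra hnu
    have hxm : x ∈ maximalIdeal (AdjoinRoot (X ^ n - C π : A[X])) := hnu
    rw [hmaxA', Ideal.mem_span_singleton] at hxm
    obtain ⟨y, rfl⟩ := hxm
    have h1 : IsUnit (φ' (AdjoinRoot.root _ * y)) := hx
    rw [map_mul, hφ'root] at h1
    have hTu : IsUnit T := isUnit_of_mul_isUnit_left h1
    have h2 : IsUnit (algebraMap A B π) := by rw [hT]; exact hTu.pow n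
    exact hπ.not_isUnit (isUnit_of_map_unit (algebraMap A B) π h2)
  haveI hfinA' : Module.Finite A (AdjoinRoot (X ^ n - C π : A[X])) := hmonic.finite_adjoinRoot
  haveI hintA' : Algebra.IsIntegral A (AdjoinRoot (X ^ n - C π : A[X])) := inferInstance
  have hALinj : Function.Injective (algebraMap A L) := by
    rw [IsScalarTower.algebraMap_eq A K L]
    exact (algebraMap K L).injective.comp (IsFractionRing.injective A K)
  have hg'inj : Function.Injective g' := by
    rw [RingHom.injective_iff_ker_eq_bot]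
    apply Ideal.eq_bot_of_comap_eq_bot (R := A)
    rw [eq_bot_iff]
    intro a ha
    rw [Ideal.mem_comap, RingHom.mem_ker, AdjoinRoot.algebraMap_eq, hg'of] at ha
    rw [Ideal.mem_bot]
    apply hALinj
    rw [map_zero]
    exact iL.injective (by rw [ha, map_zero])
  letI algA'KB : Algebra (AdjoinRoot (X ^ n - C π : A[X])) KB :=
    ((algebraMap B KB).comp φ').toAlgebra
  haveI towA'BKB : IsScalarTower (AdjoinRoot (X ^ n - C π : A[X])) B KB :=
    IsScalarTower.of_algebraMap_eq (fun _ => rfl)
  have hA'KBinj : Function.Injective (algebraMap (AdjoinRoot (X ^ n - C π : A[X])) KB) :=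
    fun x y hxy => hg'inj (congrArg iKB hxy)
  haveI : FaithfulSMul (AdjoinRoot (X ^ n - C π : A[X])) KB :=
    (faithfulSMul_iff_algebraMap_injective _ _).mpr hA'KBinj
  letI algKA'KB : Algebra (FractionRing (AdjoinRoot (X ^ n - C π : A[X]))) KB :=
    FractionRing.liftAlgebra _ KB
  letI algA'E₀ : Algebra (AdjoinRoot (X ^ n - C π : A[X])) E₀ := g'₀.toAlgebra
  have hA'E₀inj : Function.Injective (algebraMap (AdjoinRoot (X ^ n - C π : A[X])) E₀) :=
    fun x y hxy => hg'inj (congrArg Subtype.val hxy)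
  haveI : FaithfulSMul (AdjoinRoot (X ^ n - C π : A[X])) E₀ :=
    (faithfulSMul_iff_algebraMap_injective _ _).mpr hA'E₀inj
  letI algKA'E₀ : Algebra (FractionRing (AdjoinRoot (X ^ n - C π : A[X]))) E₀ :=
    FractionRing.liftAlgebra _ E₀
  -- `K → Frac A'`
  have hρinj : Function.Injective ((algebraMap (AdjoinRoot (X ^ n - C π : A[X]))
      (FractionRing (AdjoinRoot (X ^ n - C π : A[X])))).comp (AdjoinRoot.of _)) := by
    have h1 : Function.Injective (algebraMap (AdjoinRoot (X ^ n - C π : A[X]))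
        (FractionRing (AdjoinRoot (X ^ n - C π : A[X])))) :=
      IsFractionRing.injective (AdjoinRoot (X ^ n - C π : A[X]))
        (FractionRing (AdjoinRoot (X ^ n - C π : A[X])))
    have h2 : Function.Injective (AdjoinRoot.of (X ^ n - C π : A[X])) := by
      intro a b hab
      apply hALinj
      apply iL.injective
      rw [← hg'of, ← hg'of, hab]
    exact h1.comp h2
  let ρ : K →+* FractionRing (AdjoinRoot (X ^ n - C π : A[X])) := IsFractionRing.lift hρinj
  have hρ : ∀ a : A, ρ (algebraMap A K a) = algebraMap (AdjoinRoot (X ^ n - C π : A[X]))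
      (FractionRing (AdjoinRoot (X ^ n - C π : A[X]))) (AdjoinRoot.of _ a) :=
    fun a => IsFractionRing.lift_algebraMap hρinj a
  letI algKKA' : Algebra K (FractionRing (AdjoinRoot (X ^ n - C π : A[X]))) := ρ.toAlgebra
  have hcompat1 : iL₀.comp (algebraMap K L) =
      (algebraMap (FractionRing (AdjoinRoot (X ^ n - C π : A[X]))) E₀).comp
        (algebraMap K (FractionRing (AdjoinRoot (X ^ n - C π : A[X])))) := by
    apply IsLocalization.ringHom_ext (nonZeroDivisors A)
    refine RingHom.ext fun a => ?_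
    have e1 : (iL₀.comp (algebraMap K L)).comp (algebraMap A K) a = iL₀ (algebraMap A L a) := by
      rw [RingHom.comp_apply, RingHom.comp_apply, ← IsScalarTower.algebraMap_apply A K L]
    have e2 : (((algebraMap (FractionRing (AdjoinRoot (X ^ n - C π : A[X]))) E₀).comp
        (algebraMap K (FractionRing (AdjoinRoot (X ^ n - C π : A[X]))))).comp (algebraMap A K)) a
        = g'₀ (AdjoinRoot.of _ a) := by
      rw [RingHom.comp_apply, RingHom.comp_apply]
      have e3 : algebraMap K (FractionRing (AdjoinRoot (X ^ n - C π : A[X])))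
          (algebraMap A K a) = ρ (algebraMap A K a) := rfl
      rw [e3, hρ, ← IsScalarTower.algebraMap_apply (AdjoinRoot (X ^ n - C π : A[X]))
        (FractionRing (AdjoinRoot (X ^ n - C π : A[X]))) E₀]
      rfl
    rw [e1, e2]
    exact (hcompat₀ a).symm
  have hgen1 : ∀ E : Subfield E₀, Set.range iL₀ ⊆ E →
      Set.range (algebraMap (FractionRing (AdjoinRoot (X ^ n - C π : A[X]))) E₀) ⊆ E →
      E = ⊤ := by
    intro E h1 h2
    apply hgen₀ E (fun l => h1 ⟨l, rfl⟩)
    apply h2
    exact ⟨algebraMap _ _ (AdjoinRoot.root _),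
      (IsScalarTower.algebraMap_apply (AdjoinRoot (X ^ n - C π : A[X]))
        (FractionRing (AdjoinRoot (X ^ n - C π : A[X]))) E₀ _).symm⟩
  obtain ⟨hfinE₀, hsepE₀⟩ := finsep_of_generated K
    (FractionRing (AdjoinRoot (X ^ n - C π : A[X]))) L E₀ iL₀ hcompat1 hgen1
  haveI := hfinE₀
  haveI := hsepE₀
  have hcompat2 : E₀.subtype.comp
      (algebraMap (FractionRing (AdjoinRoot (X ^ n - C π : A[X]))) E₀) =
      iKB.comp (algebraMap (FractionRing (AdjoinRoot (X ^ n - C π : A[X]))) KB) := by
    apply IsLocalization.ringHom_ext (nonZeroDivisors (AdjoinRoot (X ^ n - C π : A[X])))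
    refine RingHom.ext fun x => ?_
    rw [RingHom.comp_apply, RingHom.comp_apply, RingHom.comp_apply, RingHom.comp_apply,
      ← IsScalarTower.algebraMap_apply (AdjoinRoot (X ^ n - C π : A[X]))
        (FractionRing (AdjoinRoot (X ^ n - C π : A[X]))) E₀,
      ← IsScalarTower.algebraMap_apply (AdjoinRoot (X ^ n - C π : A[X]))
        (FractionRing (AdjoinRoot (X ^ n - C π : A[X]))) KB]
    rfl
  have hgen2 : ∀ E : Subfield M, Set.range E₀.subtype ⊆ E → Set.range iKB ⊆ E → E = ⊤ := by
    intro E h1 h2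
    apply hgen E _ h2
    rintro _ ⟨l, rfl⟩
    exact h1 ⟨iL₀ l, rfl⟩
  exact Groth.Agent.S9306.core (AdjoinRoot (X ^ n - C π : A[X])) B
    (FractionRing (AdjoinRoot (X ^ n - C π : A[X]))) KB E₀ M hunr' E₀.subtype iKB hcompat2 hgen2

end Groth.Agent.Lib.Helper9.AbhAbs
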