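import Mathlib
import Groth.Prelude.Def_EtRam
import Groth.Agent.Lib.Helper9.AbhAbs.Ctx
import Groth.Agent.Lib.Helper9.AbhAbs.BaseChange
import Groth.Agent.Lib.Helper9.AbhAbs.KummerStep

/-!
# The Abhyankar step along an extension of domains (helper9)
-/

universe u

open IsLocalRing EtRam

namespace Groth.Agent.Lib.Helper9.AbhAbs

open Groth.Agent.Lib.Helper9.AbhyankarCore

section Mult

variable (R : Type u) [CommRing R] [IsDomain R]
  (𝔭 : Ideal R) [𝔭.IsPrime] [IsDiscreteValuationRing (Localization.AtPrime 𝔭)]
  (L : Type u) [Field L] [Algebra R L] [FaithfulSMul R L]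
  (hfin : letI := FractionRing.liftAlgebra R L; FiniteDimensional (FractionRing R) L)
  (hsep : letI := FractionRing.liftAlgebra R L; Algebra.IsSeparable (FractionRing R) L)

include hfin hsep in
/-- a common multiple of the ramification indices, invertible in the residue field. -/
theorem exists_mult (h : IsTamelyRamified (Localization.AtPrime 𝔭) (locLift R L 𝔭)) :
    ∃ e₀ : ℕ, 0 < e₀ ∧ (e₀ : ResidueField (Localization.AtPrime 𝔭)) ≠ 0 ∧
      ∀ (V : ValuationSubring L) (hdom : Dominates (Localization.AtPrime 𝔭) (locLift R L 𝔭) V),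
        eV (locLift R L 𝔭) V hdom ∣ e₀ := by
  classical
  letI algAK : Algebra (Localization.AtPrime 𝔭) (FractionRing R) :=
    (locLift R (FractionRing R) 𝔭).toAlgebra
  haveI towRAK : IsScalarTower R (Localization.AtPrime 𝔭) (FractionRing R) :=
    IsScalarTower.of_algebraMap_eq (fun a => (locLift_algebraMap R (FractionRing R) 𝔭 a).symm)
  haveI : IsFractionRing (Localization.AtPrime 𝔭) (FractionRing R) :=
    IsFractionRing.isFractionRing_of_isDomain_of_isLocalization 𝔭.primeCompl _ _
  letI algKL : Algebra (FractionRing R) L := FractionRing.liftAlgebra R L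
  letI algAL : Algebra (Localization.AtPrime 𝔭) L := (locLift R L 𝔭).toAlgebra
  haveI towAKL : IsScalarTower (Localization.AtPrime 𝔭) (FractionRing R) L := by
    apply IsScalarTower.of_algebraMap_eq'
    apply locRingHom_ext R 𝔭
    intro a
    rw [RingHom.comp_apply, ← IsScalarTower.algebraMap_apply R (Localization.AtPrime 𝔭) (FractionRing R),
      ← IsScalarTower.algebraMap_apply R (FractionRing R) L]
    exact locLift_algebraMap R L 𝔭 a
  haveI : FiniteDimensional (FractionRing R) L := hfin
  haveI : Algebra.IsSeparable (FractionRing R) L := hsep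
  obtain ⟨π, hπ⟩ := IsDiscreteValuationRing.exists_irreducible (Localization.AtPrime 𝔭)
  obtain ⟨e₀, h1, h2, h3, -⟩ := Groth.Agent.S9329.exists_e0 (K := FractionRing R)
    (A := Localization.AtPrime 𝔭) (L := L) h hπ
  exact ⟨e₀, h1, h2, h3⟩

end Mult

section Step

variable (R R' : Type u) [CommRing R] [IsDomain R] [CommRing R'] [IsDomain R'] [Algebra R R']
  [FaithfulSMul R R']
  (𝔭 : Ideal R) [𝔭.IsPrime] (𝔓 : Ideal R') [𝔓.IsPrime] [𝔓.LiesOver 𝔭]
  [IsDiscreteValuationRing (Localization.AtPrime 𝔭)]
  [IsDiscreteValuationRing (Localization.AtPrime 𝔓)]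
  (L : Type u) [Field L] [Algebra R L] [FaithfulSMul R L]
  (M : Type u) [Field M] [Algebra R' M] [FaithfulSMul R' M]
  (i : L →+* M) (hcompat : ∀ a : R, i (algebraMap R L a) = algebraMap R' M (algebraMap R R' a))
  (hgen : ∀ E : Subfield M, Set.range i ⊆ E → Set.range (algebraMap R' M) ⊆ E → E = ⊤)
  (hfin : letI := FractionRing.liftAlgebra R L; FiniteDimensional (FractionRing R) L)
  (hsep : letI := FractionRing.liftAlgebra R L; Algebra.IsSeparable (FractionRing R) L)

include hcompat hgen hfin hsep in
set_option maxHeartbeats 1000000 in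
/-- **Abhyankar step**: if the uniformizer `π` of `R_𝔭` becomes an `n`-th power in `R'`, with `n` a
multiple of all ramification indices of the tame extension `L`, then the compositum is unramified
over `R'_𝔓`. -/
theorem abh_baseChange
    (h : IsTamelyRamified (Localization.AtPrime 𝔭) (locLift R L 𝔭))
    (π : R) (hπ : Irreducible (algebraMap R (Localization.AtPrime 𝔭) π))
    (T : R') (n : ℕ) (hn : 0 < n) (hT : algebraMap R R' π = T ^ n)
    (hdiv : ∀ (V : ValuationSubring L)
      (hdom : Dominates (Localization.AtPrime 𝔭) (locLift R L 𝔭) V),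
      eV (locLift R L 𝔭) V hdom ∣ n) :
    IsUnramifiedExt (Localization.AtPrime 𝔓) (locLift R' M 𝔓) := by
  classical
  letI algAB : Algebra (Localization.AtPrime 𝔭) (Localization.AtPrime 𝔓) :=
    Localization.AtPrime.algebraOfLiesOver 𝔭 𝔓
  haveI : IsLocalHom (algebraMap (Localization.AtPrime 𝔭) (Localization.AtPrime 𝔓)) :=
    Localization.isLocalHom_localRingHom 𝔭 𝔓 (algebraMap R R') Ideal.LiesOver.over
  letI algAK : Algebra (Localization.AtPrime 𝔭) (FractionRing R) :=
    (locLift R (FractionRing R) 𝔭).toAlgebra
  haveI towRAK : IsScalarTower R (Localization.AtPrime 𝔭) (FractionRing R) :=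
    IsScalarTower.of_algebraMap_eq (fun a => (locLift_algebraMap R (FractionRing R) 𝔭 a).symm)
  haveI : IsFractionRing (Localization.AtPrime 𝔭) (FractionRing R) :=
    IsFractionRing.isFractionRing_of_isDomain_of_isLocalization 𝔭.primeCompl _ _
  letI algBKB : Algebra (Localization.AtPrime 𝔓) (FractionRing R') :=
    (locLift R' (FractionRing R') 𝔓).toAlgebra
  haveI towRBK : IsScalarTower R' (Localization.AtPrime 𝔓) (FractionRing R') :=
    IsScalarTower.of_algebraMap_eq (fun a => (locLift_algebraMap R' (FractionRing R') 𝔓 a).symm)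
  haveI : IsFractionRing (Localization.AtPrime 𝔓) (FractionRing R') :=
    IsFractionRing.isFractionRing_of_isDomain_of_isLocalization 𝔓.primeCompl _ _
  haveI : FaithfulSMul R (FractionRing R') :=
    (faithfulSMul_iff_algebraMap_injective R (FractionRing R')).mpr (by
      rw [IsScalarTower.algebraMap_eq R R' (FractionRing R')]
      exact (IsFractionRing.injective R' (FractionRing R')).comp
        (FaithfulSMul.algebraMap_injective R R'))
  letI algKKB : Algebra (FractionRing R) (FractionRing R') :=
    FractionRing.liftAlgebra R (FractionRing R')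
  letI algAKB : Algebra (Localization.AtPrime 𝔭) (FractionRing R') :=
    (locLift R (FractionRing R') 𝔭).toAlgebra
  haveI towAKKB : IsScalarTower (Localization.AtPrime 𝔭) (FractionRing R) (FractionRing R') := by
    apply IsScalarTower.of_algebraMap_eq'
    apply locRingHom_ext R 𝔭
    intro a
    rw [RingHom.comp_apply, ← IsScalarTower.algebraMap_apply R (Localization.AtPrime 𝔭) (FractionRing R),
      ← IsScalarTower.algebraMap_apply R (FractionRing R) (FractionRing R')]
    exact locLift_algebraMap R (FractionRing R') 𝔭 a
  haveI towABKB : IsScalarTower (Localization.AtPrime 𝔭) (Localization.AtPrime 𝔓)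
      (FractionRing R') := by
    apply IsScalarTower.of_algebraMap_eq'
    apply locRingHom_ext R 𝔭
    intro a
    rw [RingHom.comp_apply]
    have h1 : algebraMap (Localization.AtPrime 𝔭) (Localization.AtPrime 𝔓)
        (algebraMap R (Localization.AtPrime 𝔭) a) =
        algebraMap R' (Localization.AtPrime 𝔓) (algebraMap R R' a) :=
      Localization.localRingHom_to_map 𝔭 𝔓 (algebraMap R R') Ideal.LiesOver.over a
    rw [h1, ← IsScalarTower.algebraMap_apply R' (Localization.AtPrime 𝔓) (FractionRing R'),
      ← IsScalarTower.algebraMap_apply R R' (FractionRing R')]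
    exact locLift_algebraMap R (FractionRing R') 𝔭 a
  letI algKL : Algebra (FractionRing R) L := FractionRing.liftAlgebra R L
  letI algAL : Algebra (Localization.AtPrime 𝔭) L := (locLift R L 𝔭).toAlgebra
  haveI towAKL : IsScalarTower (Localization.AtPrime 𝔭) (FractionRing R) L := by
    apply IsScalarTower.of_algebraMap_eq'
    apply locRingHom_ext R 𝔭
    intro a
    rw [RingHom.comp_apply, ← IsScalarTower.algebraMap_apply R (Localization.AtPrime 𝔭) (FractionRing R),
      ← IsScalarTower.algebraMap_apply R (FractionRing R) L]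
    exact locLift_algebraMap R L 𝔭 a
  haveI : FiniteDimensional (FractionRing R) L := hfin
  haveI : Algebra.IsSeparable (FractionRing R) L := hsep
  letI algKBM : Algebra (FractionRing R') M := FractionRing.liftAlgebra R' M
  have hcompat' : i.comp (algebraMap (FractionRing R) L) =
      (algebraMap (FractionRing R') M).comp (algebraMap (FractionRing R) (FractionRing R')) := by
    apply IsLocalization.ringHom_ext (nonZeroDivisors R)
    ext a
    rw [RingHom.comp_apply, RingHom.comp_apply, RingHom.comp_apply, RingHom.comp_apply,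
      ← IsScalarTower.algebraMap_apply R (FractionRing R) L, hcompat,
      ← IsScalarTower.algebraMap_apply R (FractionRing R) (FractionRing R'),
      IsScalarTower.algebraMap_apply R R' (FractionRing R'),
      ← IsScalarTower.algebraMap_apply R' (FractionRing R') M]
  have hgen' : ∀ E : Subfield M, Set.range i ⊆ E →
      Set.range (algebraMap (FractionRing R') M) ⊆ E → E = ⊤ := by
    intro E h1 h2
    apply hgen E h1
    rintro _ ⟨b, rfl⟩
    apply h2
    exact ⟨algebraMap R' (FractionRing R') b,
      (IsScalarTower.algebraMap_apply R' (FractionRing R') M b).symm⟩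
  have hT' : algebraMap (Localization.AtPrime 𝔭) (Localization.AtPrime 𝔓)
      (algebraMap R (Localization.AtPrime 𝔭) π) =
      (algebraMap R' (Localization.AtPrime 𝔓) T) ^ n := by
    have h1 : algebraMap (Localization.AtPrime 𝔭) (Localization.AtPrime 𝔓)
        (algebraMap R (Localization.AtPrime 𝔭) π) =
        algebraMap R' (Localization.AtPrime 𝔓) (algebraMap R R' π) :=
      Localization.localRingHom_to_map 𝔭 𝔓 (algebraMap R R') Ideal.LiesOver.over π
    rw [h1, hT, map_pow]
  have key := abh_ext (Localization.AtPrime 𝔭) (Localization.AtPrime 𝔓)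
    (FractionRing R) (FractionRing R') L M h hπ (algebraMap R' (Localization.AtPrime 𝔓) T) n hn hT'
    hdiv i (algebraMap (FractionRing R') M) hcompat' hgen'
  have heq : (algebraMap (FractionRing R') M).comp
      (algebraMap (Localization.AtPrime 𝔓) (FractionRing R')) = locLift R' M 𝔓 := by
    apply locRingHom_ext R' 𝔓
    intro b
    rw [RingHom.comp_apply, ← IsScalarTower.algebraMap_apply R' (Localization.AtPrime 𝔓)
      (FractionRing R'), ← IsScalarTower.algebraMap_apply R' (FractionRing R') M]
    exact (locLift_algebraMap R' M 𝔓 b).symm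
  rw [heq] at key
  exact key

end Step

end Groth.Agent.Lib.Helper9.AbhAbs
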