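import Mathlib
import Groth.Agent.S9829
import Groth.Agent.Lib.Helper9.PrincipalRadical

/-!
# Height-one primes in Noetherian (normal) domains (helper9)
-/

universe u

open IsLocalRing

set_option linter.unusedSectionVars false

namespace Groth.Agent.Lib.Helper9.AbhAbs

section Basic

variable {R : Type u} [CommRing R] [IsDomain R] [IsNoetherianRing R]

theorem one_le_height_of_ne_bot (q : Ideal R) [q.IsPrime] (hq0 : q ≠ ⊥) : 1 ≤ q.height := by
  have hlt : (⊥ : Ideal R) < q := bot_lt_iff_ne_bot.mpr hq0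
  have : (⊥ : Ideal R).IsPrime := Ideal.isPrime_bot
  have h2 := Ideal.height_strict_mono_of_isPrime_of_isPrime hlt
  rw [Ideal.height_bot] at h2
  exact Order.one_le_iff_pos.mpr h2

theorem eq_of_le_of_height_eq_one (P q : Ideal R) [P.IsPrime] [q.IsPrime] (hq : q.height = 1)
    (hle : P ≤ q) (hP0 : P ≠ ⊥) : P = q := by
  by_contra hne
  have hlt : P < q := lt_of_le_of_ne hle hne
  have h1 := Ideal.height_strict_mono_of_isPrime_of_isPrime hlt
  rw [hq] at h1
  have h2 := one_le_height_of_ne_bot P hP0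
  exact absurd (lt_of_le_of_lt h2 h1) (lt_irrefl _)

theorem span_singleton_ne_bot {x : R} (hx : x ≠ 0) : Ideal.span ({x} : Set R) ≠ ⊥ := by
  intro h
  apply hx
  have : x ∈ (⊥ : Ideal R) := h ▸ Ideal.mem_span_singleton_self x
  simpa using this

theorem height_span_singleton (x : R) (hx : x ≠ 0) [hp : (Ideal.span ({x} : Set R)).IsPrime] :
    (Ideal.span ({x} : Set R)).height = 1 := by
  apply le_antisymm
  · haveI : (Ideal.span ({x} : Set R)).IsPrincipal := ⟨⟨x, rfl⟩⟩
    apply Ideal.height_le_one_of_isPrincipal_of_mem_minimalPrimes (Ideal.span ({x} : Set R))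
    rw [Ideal.minimalPrimes_eq_subsingleton_self]
    rfl
  · exact one_le_height_of_ne_bot _ (span_singleton_ne_bot hx)

theorem eq_span_of_mem (q : Ideal R) [q.IsPrime] (hq : q.height = 1) (x : R) (hx : x ≠ 0)
    [(Ideal.span ({x} : Set R)).IsPrime] (hxq : x ∈ q) : Ideal.span ({x} : Set R) = q := by
  apply eq_of_le_of_height_eq_one _ q hq
  · rw [Ideal.span_le]
    intro y hy
    rw [Set.mem_singleton_iff] at hy
    rw [hy]
    exact hxq
  · exact span_singleton_ne_bot hx

end Basic

section Under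

variable (R R' : Type u) [CommRing R] [IsDomain R] [IsNoetherianRing R] [IsIntegrallyClosed R]
  [CommRing R'] [IsDomain R'] [IsNoetherianRing R'] [Algebra R R'] [FaithfulSMul R R']
  [Algebra.IsIntegral R R']

theorem under_ne_bot (𝔓 : Ideal R') [𝔓.IsPrime] (h : 𝔓 ≠ ⊥) : 𝔓.under R ≠ ⊥ := by
  intro h0
  exact h (Ideal.eq_bot_of_comap_eq_bot h0)

theorem height_under_eq_one (𝔓 : Ideal R') [𝔓.IsPrime] (h : 𝔓.height = 1) :
    (𝔓.under R).height = 1 := by
  have h𝔓0 : 𝔓 ≠ ⊥ := Ideal.ne_bot_of_height_eq_one h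
  apply le_antisymm
  · have key := Ideal.height_eq_height_add_of_liesOver_of_hasGoingDown (𝔓.under R) 𝔓
    rw [h] at key
    rw [key]
    exact le_self_add
  · exact one_le_height_of_ne_bot _ (under_ne_bot R R' 𝔓 h𝔓0)

end Under

section DVR

variable (R : Type u) [CommRing R] [IsRegularLocalRing R] [IsDomain R]

theorem isDVR_of_height_eq_one (𝔭 : Ideal R) [𝔭.IsPrime] (h : 𝔭.height = 1) :
    IsDiscreteValuationRing (Localization.AtPrime 𝔭) := by
  haveI : IsIntegrallyClosed R := Groth.Agent.S9829.result R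
  exact Groth.Agent.Lib.Helper9.PrincipalRadical.H1.isDVR 𝔭 ⟨inferInstance, h⟩

end DVR

end Groth.Agent.Lib.Helper9.AbhAbs
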