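import Mathlib
import Groth.Prelude.Def_EtRam
import Groth.Agent.S9306
import Groth.Agent.S9829
import Groth.Agent.Lib.Helper29.Purity.CodimOne
import Groth.Agent.Lib.Helper9.AbhAbs.Ctx
import Groth.Agent.Lib.Helper9.AbhAbs.HeightOne

/-!
# Unramified in codimension one over a regular local ring implies étale (helper9)

The integral closure of a regular local domain `A` in a finite separable extension `M` of its
fraction field, unramified at all height-one primes of `A`, is finite étale over `A`
(Zariski–Nagata purity, proved by helper29).
-/

universe u

open IsLocalRing EtRam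

namespace Groth.Agent.Lib.Helper9.AbhAbs

section Bot

variable (A : Type u) [CommRing A] [IsDomain A] (M : Type u) [Field M] [Algebra A M]
  [FaithfulSMul A M]
  (hfin : letI := FractionRing.liftAlgebra A M; FiniteDimensional (FractionRing A) M)
  (hsep : letI := FractionRing.liftAlgebra A M; Algebra.IsSeparable (FractionRing A) M)

include hfin hsep in
theorem isEtaleAt_bot : Algebra.IsEtaleAt A (⊥ : Ideal (integralClosure A M)) := by
  classical
  letI algKM : Algebra (FractionRing A) M := FractionRing.liftAlgebra A M
  haveI : IsScalarTower A (FractionRing A) M := FractionRing.isScalarTower_liftAlgebra A M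
  haveI : FiniteDimensional (FractionRing A) M := hfin
  haveI : Algebra.IsSeparable (FractionRing A) M := hsep
  haveI : IsFractionRing (integralClosure A M) M :=
    integralClosure.isFractionRing_of_finite_extension (FractionRing A) M
  haveI : IsFractionRing (integralClosure A M)
      (Localization.AtPrime (⊥ : Ideal (integralClosure A M))) := by
    simpa [Ideal.primeCompl_bot] using
      Localization.isLocalization (M := (⊥ : Ideal (integralClosure A M)).primeCompl)
  let e : Localization.AtPrime (⊥ : Ideal (integralClosure A M)) ≃ₐ[integralClosure A M] M :=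
    IsLocalization.algEquiv (nonZeroDivisors (integralClosure A M)) _ _
  haveI : Algebra.FormallyEtale A (FractionRing A) :=
    Algebra.FormallyEtale.of_isLocalization (nonZeroDivisors A)
  haveI : Algebra.FormallyEtale (FractionRing A) M := Algebra.FormallyEtale.of_isSeparable _ _
  haveI : Algebra.FormallyEtale A M := Algebra.FormallyEtale.comp A (FractionRing A) M
  exact Algebra.FormallyEtale.of_equiv (e.symm.restrictScalars A)

end Bot

section DVR

variable (A : Type u) [CommRing A] [IsDomain A] (𝔓 : Ideal A) [𝔓.IsPrime]
  [IsDiscreteValuationRing (Localization.AtPrime 𝔓)]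
  (M : Type u) [Field M] [Algebra A M] [FaithfulSMul A M]
  (hfin : letI := FractionRing.liftAlgebra A M; FiniteDimensional (FractionRing A) M)
  (hsep : letI := FractionRing.liftAlgebra A M; Algebra.IsSeparable (FractionRing A) M)

include hfin hsep in
set_option maxHeartbeats 2000000 in
theorem isEtaleAt_of_unram (h : IsUnramifiedExt (Localization.AtPrime 𝔓) (locLift A M 𝔓))
    (q : Ideal (integralClosure A M)) [q.IsPrime]
    (hq : q.comap (algebraMap A (integralClosure A M)) = 𝔓) : Algebra.IsEtaleAt A q := by
  classical
  letI algAK : Algebra (Localization.AtPrime 𝔓) (FractionRing A) :=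
    (locLift A (FractionRing A) 𝔓).toAlgebra
  haveI towRAK : IsScalarTower A (Localization.AtPrime 𝔓) (FractionRing A) :=
    IsScalarTower.of_algebraMap_eq (fun a => (locLift_algebraMap A (FractionRing A) 𝔓 a).symm)
  haveI : IsFractionRing (Localization.AtPrime 𝔓) (FractionRing A) :=
    IsFractionRing.isFractionRing_of_isDomain_of_isLocalization 𝔓.primeCompl _ _
  letI algKM : Algebra (FractionRing A) M := FractionRing.liftAlgebra A M
  haveI : IsScalarTower A (FractionRing A) M := FractionRing.isScalarTower_liftAlgebra A M
  letI algAM : Algebra (Localization.AtPrime 𝔓) M := (locLift A M 𝔓).toAlgebra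
  haveI towAAM : IsScalarTower A (Localization.AtPrime 𝔓) M :=
    IsScalarTower.of_algebraMap_eq (fun a => (locLift_algebraMap A M 𝔓 a).symm)
  haveI towAKM : IsScalarTower (Localization.AtPrime 𝔓) (FractionRing A) M := by
    apply IsScalarTower.of_algebraMap_eq'
    apply locRingHom_ext A 𝔓
    intro a
    rw [RingHom.comp_apply, ← IsScalarTower.algebraMap_apply A (Localization.AtPrime 𝔓) (FractionRing A),
      ← IsScalarTower.algebraMap_apply A (FractionRing A) M]
    exact locLift_algebraMap A M 𝔓 a
  haveI : FiniteDimensional (FractionRing A) M := hfin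
  haveI : Algebra.IsSeparable (FractionRing A) M := hsep
  haveI hC : Algebra.Etale (Localization.AtPrime 𝔓) (integralClosure (Localization.AtPrime 𝔓) M) :=
    Groth.Agent.S9306.etale_integralClosure (Localization.AtPrime 𝔓) (FractionRing A) M h
  -- the inclusion `B → C`
  have hint : ∀ x : integralClosure A M, (x : M) ∈ integralClosure (Localization.AtPrime 𝔓) M :=
    fun x => IsIntegral.tower_top (A := Localization.AtPrime 𝔓) x.2
  let ι : integralClosure A M →+* integralClosure (Localization.AtPrime 𝔓) M :=
    { toFun := fun x => ⟨(x : M), hint x⟩
      map_one' := rfl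
      map_mul' := fun _ _ => rfl
      map_zero' := rfl
      map_add' := fun _ _ => rfl }
  letI algBC : Algebra (integralClosure A M) (integralClosure (Localization.AtPrime 𝔓) M) :=
    ι.toAlgebra
  haveI towBCM : IsScalarTower (integralClosure A M) (integralClosure (Localization.AtPrime 𝔓) M) M :=
    IsScalarTower.of_algebraMap_eq (fun x => rfl)
  haveI towABC : IsScalarTower A (integralClosure A M)
      (integralClosure (Localization.AtPrime 𝔓) M) :=
    IsScalarTower.of_algebraMap_eq (fun a => Subtype.ext (by
      show algebraMap A M a = algebraMap A M a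
      rfl))
  haveI hlocM : IsLocalization (Algebra.algebraMapSubmonoid M 𝔓.primeCompl) M := by
    apply IsLocalization.self
    rintro _ ⟨y, hy, rfl⟩
    exact isUnit_algebraMap_of_primeCompl A M 𝔓 ⟨y, hy⟩
  haveI hlocC : IsLocalization (Algebra.algebraMapSubmonoid (integralClosure A M) 𝔓.primeCompl)
      (integralClosure (Localization.AtPrime 𝔓) M) :=
    IsLocalization.integralClosure (R := A) (S := M) (Rf := Localization.AtPrime 𝔓) (Sf := M)
      𝔓.primeCompl
  -- the map `C → B_q`
  have hle : Algebra.algebraMapSubmonoid (integralClosure A M) 𝔓.primeCompl ≤ q.primeCompl := by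
    rintro _ ⟨y, hy, rfl⟩
    intro hmem
    apply hy
    rw [← hq]
    exact hmem
  have hunits : ∀ y : Algebra.algebraMapSubmonoid (integralClosure A M) 𝔓.primeCompl,
      IsUnit (algebraMap (integralClosure A M) (Localization.AtPrime q) y) := fun y =>
    IsLocalization.map_units (Localization.AtPrime q) (⟨y.1, hle y.2⟩ : q.primeCompl)
  let g : integralClosure (Localization.AtPrime 𝔓) M →+* Localization.AtPrime q :=
    IsLocalization.lift hunits
  letI algCBq : Algebra (integralClosure (Localization.AtPrime 𝔓) M) (Localization.AtPrime q) :=
    g.toAlgebra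
  haveI towBCBq : IsScalarTower (integralClosure A M)
      (integralClosure (Localization.AtPrime 𝔓) M) (Localization.AtPrime q) :=
    IsScalarTower.of_algebraMap_eq (fun x => (IsLocalization.lift_eq hunits x).symm)
  haveI hlocBq : IsLocalization
      (q.primeCompl.map (algebraMap (integralClosure A M)
        (integralClosure (Localization.AtPrime 𝔓) M))) (Localization.AtPrime q) :=
    IsLocalization.isLocalization_of_submonoid_le _ _
      (Algebra.algebraMapSubmonoid (integralClosure A M) 𝔓.primeCompl) q.primeCompl hle
  haveI : Algebra.FormallyEtale (integralClosure (Localization.AtPrime 𝔓) M)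
      (Localization.AtPrime q) :=
    Algebra.FormallyEtale.of_isLocalization
      (q.primeCompl.map (algebraMap (integralClosure A M)
        (integralClosure (Localization.AtPrime 𝔓) M)))
  haveI : Algebra.FormallyEtale A (Localization.AtPrime 𝔓) :=
    Algebra.FormallyEtale.of_isLocalization 𝔓.primeCompl
  haveI towAAC : IsScalarTower A (Localization.AtPrime 𝔓)
      (integralClosure (Localization.AtPrime 𝔓) M) :=
    IsScalarTower.of_algebraMap_eq (fun a => Subtype.ext (by
      show algebraMap A M a = algebraMap (Localization.AtPrime 𝔓) M (algebraMap A _ a)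
      exact IsScalarTower.algebraMap_apply A (Localization.AtPrime 𝔓) M a))
  haveI : Algebra.FormallyEtale A (integralClosure (Localization.AtPrime 𝔓) M) :=
    Algebra.FormallyEtale.comp A (Localization.AtPrime 𝔓) _
  haveI towACBq : IsScalarTower A (integralClosure (Localization.AtPrime 𝔓) M)
      (Localization.AtPrime q) :=
    IsScalarTower.of_algebraMap_eq (fun a => by
      rw [IsScalarTower.algebraMap_apply A (integralClosure A M) (Localization.AtPrime q),
        IsScalarTower.algebraMap_apply (integralClosure A M)
          (integralClosure (Localization.AtPrime 𝔓) M) (Localization.AtPrime q),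
        ← IsScalarTower.algebraMap_apply A (integralClosure A M)
          (integralClosure (Localization.AtPrime 𝔓) M)])
  exact Algebra.FormallyEtale.comp A (integralClosure (Localization.AtPrime 𝔓) M)
    (Localization.AtPrime q)

end DVR

section Main

variable (A : Type u) [CommRing A] [IsRegularLocalRing A] [IsDomain A]
  (M : Type u) [Field M] [Algebra A M] [FaithfulSMul A M]
  (hfin : letI := FractionRing.liftAlgebra A M; FiniteDimensional (FractionRing A) M)
  (hsep : letI := FractionRing.liftAlgebra A M; Algebra.IsSeparable (FractionRing A) M)

include hfin hsep in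
/-- **Lemma C**: unramified in codimension one implies finite étale. -/
theorem etale_integralClosure_of_unram
    (h : ∀ (𝔓 : Ideal A) [𝔓.IsPrime], 𝔓.height = 1 →
      IsUnramifiedExt (Localization.AtPrime 𝔓) (locLift A M 𝔓)) :
    Module.Finite A (integralClosure A M) ∧ Algebra.Etale A (integralClosure A M) := by
  classical
  letI algKM : Algebra (FractionRing A) M := FractionRing.liftAlgebra A M
  haveI : IsScalarTower A (FractionRing A) M := FractionRing.isScalarTower_liftAlgebra A M
  haveI : FiniteDimensional (FractionRing A) M := hfin
  haveI : Algebra.IsSeparable (FractionRing A) M := hsep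
  haveI : IsIntegrallyClosed A := Groth.Agent.S9829.result A
  haveI hfinB : Module.Finite A (integralClosure A M) :=
    IsIntegralClosure.finite A (FractionRing A) M _
  haveI : IsIntegrallyClosed (integralClosure A M) :=
    integralClosure.isIntegrallyClosedOfFiniteExtension (FractionRing A)
  have hinj : Function.Injective (algebraMap A (integralClosure A M)) := by
    intro a b hab
    apply FaithfulSMul.algebraMap_injective A M
    exact congrArg (algebraMap (integralClosure A M) M) hab
  refine ⟨hfinB, Groth.Agent.Lib.Helper29.Purity.purity_of_height_comap_le_one hinj ?_⟩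
  intro q _ hq
  by_cases h0 : q.comap (algebraMap A (integralClosure A M)) = ⊥
  · have hq0 : q = ⊥ := Ideal.eq_bot_of_comap_eq_bot h0
    subst hq0
    exact isEtaleAt_bot A M hfin hsep
  · have h1 : (q.comap (algebraMap A (integralClosure A M))).height = 1 :=
      le_antisymm hq (one_le_height_of_ne_bot _ h0)
    haveI := isDVR_of_height_eq_one A _ h1
    exact isEtaleAt_of_unram A _ M hfin hsep (h _ h1) q rfl

end Main

end Groth.Agent.Lib.Helper9.AbhAbs
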