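import Mathlib
import Groth.Prelude.Def_SGA1
import Groth.Agent.S2921
import Groth.Agent.S9829
import Groth.Agent.Lib.Helper9.HensK.FiniteLocal
import Groth.Agent.Lib.Helper9.KummerTame.Etale

/-!
# Kummer algebras over regular local rings: the setting is preserved (helper9)

For a regular local ring `R` and `t_1, …, t_r` part of a regular system of parameters, the Kummer
algebra `R' = R[T_i]/(T_i^{n_i} - t_i)` is again a regular local domain in which the `T_i` are part
of a regular system of parameters; it is finite and injective over `R`, and strictly henselian if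
`R` is.
-/

universe u

open IsLocalRing MvPolynomial

namespace Groth.Agent.Lib.Helper9.AbhAbs

open Groth.Agent.Lib.Helper9.KummerTame

set_option linter.unusedSectionVars false

section Gens

variable (R : Type u) [CommRing R] [IsRegularLocalRing R] {r : ℕ} (t : Fin r → R)
  (hm : ∀ i, t i ∈ maximalIdeal R)
  (hf : LinearIndependent (ResidueField R) (fun i => (maximalIdeal R).toCotangent ⟨t i, hm i⟩))

include hf in
/-- part of a regular system of parameters extends to a full regular system of parameters. -/
theorem exists_compl_generators :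
    ∃ (e : ℕ) (g : Fin e → R), (∀ j, g j ∈ maximalIdeal R) ∧
      maximalIdeal R = Ideal.span (Set.range t ∪ Set.range g) ∧
      ((r + e : ℕ) : WithBot ℕ∞) = ringKrullDim R := by
  classical
  have hdimA : (Module.finrank (ResidueField R) (CotangentSpace R) : WithBot ℕ∞) =
      ringKrullDim R := (IsRegularLocalRing.iff_finrank_cotangentSpace R).mp inferInstance
  obtain ⟨W', hW'⟩ := Submodule.exists_isCompl
    (Submodule.span (ResidueField R)
      (Set.range fun i => (maximalIdeal R).toCotangent ⟨t i, hm i⟩))
  have hfinW : Module.finrank (ResidueField R) (Submodule.span (ResidueField R)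
      (Set.range fun i => (maximalIdeal R).toCotangent ⟨t i, hm i⟩)) = r := by
    have := finrank_span_eq_card hf
    simpa using this
  have hadd := Submodule.finrank_add_eq_of_isCompl hW'
  obtain ⟨e, he⟩ : ∃ e : ℕ, Module.finrank (ResidueField R) W' = e := ⟨_, rfl⟩
  let b : Module.Basis (Fin e) (ResidueField R) W' := Module.finBasisOfFinrankEq _ _ he
  choose g hg using fun j : Fin e => (maximalIdeal R).toCotangent_surjective (b j : CotangentSpace R)
  have hs : Submodule.span (ResidueField R) ((maximalIdeal R).toCotangent ''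
      (Set.range (fun i => (⟨t i, hm i⟩ : maximalIdeal R)) ∪ Set.range g)) = ⊤ := by
    rw [Set.image_union, Submodule.span_union, ← Set.range_comp, ← Set.range_comp]
    have h2 : Submodule.span (ResidueField R) (Set.range ((maximalIdeal R).toCotangent ∘ g)) =
        W' := by
      have h3 : ((maximalIdeal R).toCotangent ∘ g) = (W'.subtype ∘ b) := by
        funext j
        exact hg j
      rw [h3, Set.range_comp, ← Submodule.map_span, b.span_eq, Submodule.map_top,
        Submodule.range_subtype]
    rw [h2]
    exact hW'.sup_eq_top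
  have hs' := IsLocalRing.CotangentSpace.span_image_eq_top_iff.mp hs
  refine ⟨e, fun j => (g j : R), fun j => (g j).2, ?_, ?_⟩
  · apply le_antisymm
    · intro x hx
      have h1 : (⟨x, hx⟩ : maximalIdeal R) ∈ Submodule.span R
          (Set.range (fun i => (⟨t i, hm i⟩ : maximalIdeal R)) ∪ Set.range g) := by
        rw [hs']; exact Submodule.mem_top
      have h2 := Submodule.mem_map_of_mem (f := (maximalIdeal R).subtype) h1
      rw [Submodule.map_span] at h2
      have h3 : (maximalIdeal R).subtype '' (Set.range (fun i => (⟨t i, hm i⟩ : maximalIdeal R)) ∪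
          Set.range g) = Set.range t ∪ Set.range (fun j => (g j : R)) := by
        rw [Set.image_union, ← Set.range_comp, ← Set.range_comp]
        rfl
      rw [h3] at h2
      exact h2
    · rw [Ideal.span_le]
      rintro x (⟨i, rfl⟩ | ⟨j, rfl⟩)
      · exact hm i
      · exact (g j).2
  · rw [← hdimA, ← hadd, hfinW, he]

end Gens

section Kummer

variable (R : Type u) [CommRing R] [IsRegularLocalRing R] {r : ℕ} (t : Fin r → R)
  (hm : ∀ i, t i ∈ maximalIdeal R)
  (hf : LinearIndependent (ResidueField R) (fun i => (maximalIdeal R).toCotangent ⟨t i, hm i⟩))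
  (n : Fin r → ℕ) (hn : ∀ i, 1 ≤ n i)

include hf hn in
theorem isRegularLocalRing_kummer : IsRegularLocalRing (SGA1.kummerAlg R t n) :=
  Groth.Agent.S2921.regular_part R r t hm hf n hn

include hn in
theorem isIntegral_kummer : Algebra.IsIntegral R (SGA1.kummerAlg R t n) :=
  Groth.Agent.S2921.isIntegral_kummer t n hn

include hn in
theorem finite_kummer : Module.Finite R (SGA1.kummerAlg R t n) := by
  haveI := isIntegral_kummer R t n hn
  exact Algebra.IsIntegral.finite

include hn in
theorem algebraMap_kummer_injective [IsDomain R] :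
    Function.Injective (algebraMap R (SGA1.kummerAlg R t n)) :=
  Groth.Agent.S2921.algebraMap_injective_kummer t n hn

include hm hn in
theorem maximalIdeal_kummer [IsLocalRing (SGA1.kummerAlg R t n)] :
    maximalIdeal (SGA1.kummerAlg R t n) = Ideal.span (Set.range (T t n)) ⊔
      (maximalIdeal R).map (algebraMap R (SGA1.kummerAlg R t n)) := by
  obtain ⟨hloc, h⟩ := Groth.Agent.S2921.isLocalRing_kummer t n hm hn
  exact h

include hm hn in
theorem T_mem_maximalIdeal [IsLocalRing (SGA1.kummerAlg R t n)] (i : Fin r) :
    T t n i ∈ maximalIdeal (SGA1.kummerAlg R t n) := by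
  rw [maximalIdeal_kummer R t hm n hn]
  exact Ideal.mem_sup_left (Ideal.subset_span ⟨i, rfl⟩)

include hm hn in
theorem isLocalHom_algebraMap_kummer [IsLocalRing (SGA1.kummerAlg R t n)] :
    IsLocalHom (algebraMap R (SGA1.kummerAlg R t n)) := by
  haveI := isIntegral_kummer R t n hn
  refine ⟨fun a ha => ?_⟩
  by_contra hnu
  have h1 : a ∈ maximalIdeal R := hnu
  have h2 : algebraMap R (SGA1.kummerAlg R t n) a ∈ maximalIdeal (SGA1.kummerAlg R t n) := by
    rw [maximalIdeal_kummer R t hm n hn]
    exact Ideal.mem_sup_right (Ideal.mem_map_of_mem _ h1)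
  exact h2 ha

set_option maxHeartbeats 1000000 in
include hf hn in
/-- the classes `T_i` are again part of a regular system of parameters. -/
theorem linearIndependent_T [IsRegularLocalRing (SGA1.kummerAlg R t n)] :
    LinearIndependent (ResidueField (SGA1.kummerAlg R t n))
      (fun i => (maximalIdeal (SGA1.kummerAlg R t n)).toCotangent
        ⟨T t n i, T_mem_maximalIdeal R t hm n hn i⟩) := by
  classical
  haveI : IsDomain R := Groth.Agent.Lib.Helper85.isDomain_of_isRegularLocalRing R
  obtain ⟨e, g, hgm, hmax, hdim⟩ := exists_compl_generators R t hm hf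
  have hmaxeq := maximalIdeal_kummer R t hm n hn
  let F : Fin r ⊕ Fin e → SGA1.kummerAlg R t n :=
    Sum.elim (T t n) (fun j => algebraMap R (SGA1.kummerAlg R t n) (g j))
  have hFmem : ∀ z, F z ∈ maximalIdeal (SGA1.kummerAlg R t n) := by
    rintro (i | j)
    · exact T_mem_maximalIdeal R t hm n hn i
    · rw [hmaxeq]
      exact Ideal.mem_sup_right (Ideal.mem_map_of_mem _ (hgm j))
  have hmax' : maximalIdeal (SGA1.kummerAlg R t n) = Ideal.span (Set.range F) := by
    apply le_antisymm
    · rw [hmaxeq, sup_le_iff]
      constructor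
      · rw [Ideal.span_le]
        rintro _ ⟨i, rfl⟩
        exact Ideal.subset_span ⟨Sum.inl i, rfl⟩
      · rw [Ideal.map_le_iff_le_comap, hmax, Ideal.span_le]
        rintro x (⟨i, rfl⟩ | ⟨j, rfl⟩)
        · rw [SetLike.mem_coe, Ideal.mem_comap, ← T_pow]
          have hTi : T t n i ∈ Ideal.span (Set.range F) := Ideal.subset_span ⟨Sum.inl i, rfl⟩
          exact Ideal.pow_mem_of_mem _ hTi _ (hn i)
        · exact Ideal.subset_span ⟨Sum.inr j, rfl⟩
    · rw [Ideal.span_le]
      rintro _ ⟨z, rfl⟩
      exact hFmem z
  have hspanR : Submodule.span (SGA1.kummerAlg R t n)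
      (Set.range (fun z => (⟨F z, hFmem z⟩ : maximalIdeal (SGA1.kummerAlg R t n)))) = ⊤ := by
    apply Submodule.map_injective_of_injective
      (f := (maximalIdeal (SGA1.kummerAlg R t n)).subtype) Subtype.val_injective
    rw [Submodule.map_span, Submodule.map_top, Submodule.range_subtype, ← Set.range_comp]
    exact hmax'.symm
  have hspan : ⊤ ≤ Submodule.span (ResidueField (SGA1.kummerAlg R t n))
      (Set.range (fun z => (maximalIdeal (SGA1.kummerAlg R t n)).toCotangent ⟨F z, hFmem z⟩)) := by
    rw [top_le_iff]
    have h1 : Set.range (fun z => (maximalIdeal (SGA1.kummerAlg R t n)).toCotangent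
        ⟨F z, hFmem z⟩) = (maximalIdeal (SGA1.kummerAlg R t n)).toCotangent ''
        (Set.range (fun z => (⟨F z, hFmem z⟩ : maximalIdeal (SGA1.kummerAlg R t n)))) := by
      rw [← Set.range_comp]
      rfl
    rw [h1, IsLocalRing.CotangentSpace.span_image_eq_top_iff]
    exact hspanR
  have hinj := algebraMap_kummer_injective R t n hn
  haveI := isIntegral_kummer R t n hn
  have hdim' : ringKrullDim (SGA1.kummerAlg R t n) = ringKrullDim R :=
    Groth.Agent.Lib.Helper55.ringKrullDim_eq_of_isIntegral_of_injective R _ hinj
  have hfr : (Module.finrank (ResidueField (SGA1.kummerAlg R t n))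
      (CotangentSpace (SGA1.kummerAlg R t n)) : WithBot ℕ∞) =
      ringKrullDim (SGA1.kummerAlg R t n) :=
    (IsRegularLocalRing.iff_finrank_cotangentSpace _).mp inferInstance
  have hcard : Fintype.card (Fin r ⊕ Fin e) = Module.finrank (ResidueField (SGA1.kummerAlg R t n))
      (CotangentSpace (SGA1.kummerAlg R t n)) := by
    rw [Fintype.card_sum, Fintype.card_fin, Fintype.card_fin]
    rw [hdim', ← hdim] at hfr
    exact_mod_cast hfr.symm
  have hli := linearIndependent_of_top_le_span_of_card_eq_finrank hspan hcard
  exact hli.comp Sum.inl Sum.inl_injective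

end Kummer

section Henselian

variable (R : Type u) [CommRing R] [IsRegularLocalRing R] {r : ℕ} (t : Fin r → R)
  (hm : ∀ i, t i ∈ maximalIdeal R) (n : Fin r → ℕ) (hn : ∀ i, 1 ≤ n i)

include hn in
theorem henselianLocalRing_kummer [HenselianLocalRing R] [IsLocalRing (SGA1.kummerAlg R t n)] :
    HenselianLocalRing (SGA1.kummerAlg R t n) := by
  haveI := isIntegral_kummer R t n hn
  exact Groth.Agent.Lib.Helper9.HensK.henselianLocalRing_of_isIntegral R _

include hm hn in
theorem isSepClosed_residueField_kummer [IsSepClosed (ResidueField R)]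
    [IsLocalRing (SGA1.kummerAlg R t n)] :
    IsSepClosed (ResidueField (SGA1.kummerAlg R t n)) := by
  haveI := isIntegral_kummer R t n hn
  haveI := isLocalHom_algebraMap_kummer R t hm n hn
  haveI : Algebra.IsIntegral (ResidueField R) (ResidueField (SGA1.kummerAlg R t n)) := by
    constructor
    intro x
    obtain ⟨y, rfl⟩ := residue_surjective x
    have h1 : IsIntegral R y := Algebra.IsIntegral.isIntegral y
    have h2 : IsIntegral R (residue (SGA1.kummerAlg R t n) y) :=
      h1.map (IsScalarTower.toAlgHom R (SGA1.kummerAlg R t n)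
        (ResidueField (SGA1.kummerAlg R t n)))
    exact h2.tower_top
  haveI : Algebra.IsAlgebraic (ResidueField R) (ResidueField (SGA1.kummerAlg R t n)) :=
    Algebra.IsIntegral.isAlgebraic
  exact Algebra.IsAlgebraic.isSepClosed (F := ResidueField R)

end Henselian

section RegPar

variable {R : Type u} [CommRing R] [IsRegularLocalRing R]

theorem span_singleton_isPrime_of_notMem_sq (x : R) (hx : x ∈ maximalIdeal R)
    (hx2 : x ∉ maximalIdeal R ^ 2) : (Ideal.span ({x} : Set R)).IsPrime := by
  obtain ⟨hreg, -⟩ := Groth.Agent.Lib.Helper85.isRegularLocalRing_quotient_span_singleton x hx hx2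
  haveI := hreg
  haveI : IsDomain (R ⧸ Ideal.span ({x} : Set R)) :=
    Groth.Agent.Lib.Helper85.isDomain_of_isRegularLocalRing _
  exact (Ideal.Quotient.isDomain_iff_prime _).mp inferInstance

variable {r : ℕ} (t : Fin r → R) (hm : ∀ i, t i ∈ maximalIdeal R)
  (hf : LinearIndependent (ResidueField R) (fun i => (maximalIdeal R).toCotangent ⟨t i, hm i⟩))

include hf in
theorem notMem_sq_of_linearIndependent (i : Fin r) : t i ∉ maximalIdeal R ^ 2 := by
  intro h
  have h1 := hf.ne_zero i
  apply h1
  rw [Ideal.toCotangent_eq_zero]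
  exact h

include hf in
theorem span_singleton_isPrime_of_linearIndependent (i : Fin r) :
    (Ideal.span ({t i} : Set R)).IsPrime :=
  span_singleton_isPrime_of_notMem_sq (t i) (hm i) (notMem_sq_of_linearIndependent t hm hf i)

include hf in
theorem ne_zero_of_linearIndependent (i : Fin r) : t i ≠ 0 := by
  intro h
  apply notMem_sq_of_linearIndependent t hm hf i
  rw [h]
  exact Ideal.zero_mem _

include hf in
/-- two distinct members of a regular system of parameters are "independent modulo squares". -/
theorem notMem_sq_sup_span (i j : Fin r) (hij : i ≠ j) :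
    t i ∉ maximalIdeal R ^ 2 ⊔ Ideal.span ({t j} : Set R) := by
  intro h
  obtain ⟨a, ha, b, hb, hab⟩ := Submodule.mem_sup.mp h
  rw [Ideal.mem_span_singleton'] at hb
  obtain ⟨c, rfl⟩ := hb
  have h1 : (maximalIdeal R).toCotangent ⟨t i, hm i⟩ =
      residue R c • (maximalIdeal R).toCotangent ⟨t j, hm j⟩ := by
    have ham : a ∈ maximalIdeal R := Ideal.pow_le_self two_ne_zero ha
    have h2 : (⟨t i, hm i⟩ : maximalIdeal R) = ⟨a, ham⟩ + c • (⟨t j, hm j⟩ : maximalIdeal R) :=
      Subtype.ext (by show t i = a + c * t j; rw [hab])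
    rw [h2, map_add, map_smul]
    have h3 : (maximalIdeal R).toCotangent ⟨a, ham⟩ = 0 := by
      rw [Ideal.toCotangent_eq_zero]
      exact ha
    rw [h3, zero_add]
    rfl
  have h3 := hf.notMem_span_image (s := {j}) (x := i) (by simpa using hij)
  apply h3
  rw [Set.image_singleton, Submodule.mem_span_singleton]
  exact ⟨residue R c, h1.symm⟩

end RegPar

end Groth.Agent.Lib.Helper9.AbhAbs
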