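import Mathlib
import Groth.Prelude.Def_EtRam
import Groth.Prelude.Def_SGA1
import Groth.Agent.Lib.Helper9.AbhAbs.Ctx
import Groth.Agent.Lib.Helper9.AbhAbs.BaseChange
import Groth.Agent.Lib.Helper9.AbhAbs.AbhStep
import Groth.Agent.Lib.Helper9.AbhAbs.HeightOne
import Groth.Agent.Lib.Helper9.AbhAbs.KummerSetting

/-!
# Fields over a regular local ring, unramified in codimension one off a normal crossings divisor
and tamely ramified along it (helper9)
-/

universe u

open IsLocalRing EtRam

namespace Groth.Agent.Lib.Helper9.AbhAbs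

open Groth.Agent.Lib.Helper9.AbhyankarCore Groth.Agent.Lib.Helper9.KummerTame

/-- `L` is a finite separable extension of the fraction field of `R`, unramified at the height-one
primes not containing `∏ t_i`, and tamely ramified at the primes `(t_i)`. -/
structure Good (R : Type u) [CommRing R] [IsDomain R] {r : ℕ} (t : Fin r → R) (L : Type u)
    [Field L] [Algebra R L] [FaithfulSMul R L] : Prop where
  fin : letI := FractionRing.liftAlgebra R L; FiniteDimensional (FractionRing R) L
  sep : letI := FractionRing.liftAlgebra R L; Algebra.IsSeparable (FractionRing R) L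
  unram : ∀ (𝔭 : Ideal R) [𝔭.IsPrime], 𝔭.height = 1 → (∏ i, t i) ∉ 𝔭 →
    IsUnramifiedExt (Localization.AtPrime 𝔭) (locLift R L 𝔭)
  tame : ∀ (i : Fin r) [(Ideal.span ({t i} : Set R)).IsPrime],
    IsTamelyRamified (Localization.AtPrime (Ideal.span ({t i} : Set R)))
      (locLift R L (Ideal.span ({t i} : Set R)))

section Kummer

variable (R : Type u) [CommRing R] [IsRegularLocalRing R] [IsDomain R] {r : ℕ} (t : Fin r → R)
  (hm : ∀ i, t i ∈ maximalIdeal R)
  (hf : LinearIndependent (ResidueField R) (fun i => (maximalIdeal R).toCotangent ⟨t i, hm i⟩))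
  (n : Fin r → ℕ) (hn : ∀ i, 1 ≤ n i)
  [IsRegularLocalRing (SGA1.kummerAlg R t n)] [IsDomain (SGA1.kummerAlg R t n)]
  (L : Type u) [Field L] [Algebra R L] [FaithfulSMul R L]
  (M : Type u) [Field M] [Algebra (SGA1.kummerAlg R t n) M] [FaithfulSMul (SGA1.kummerAlg R t n) M]
  (i : L →+* M)
  (hcompat : ∀ a : R, i (algebraMap R L a) =
    algebraMap (SGA1.kummerAlg R t n) M (algebraMap R (SGA1.kummerAlg R t n) a))
  (hgen : ∀ E : Subfield M, Set.range i ⊆ E →
    Set.range (algebraMap (SGA1.kummerAlg R t n) M) ⊆ E → E = ⊤)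

include hn in
theorem faithfulSMul_kummer : FaithfulSMul R (SGA1.kummerAlg R t n) :=
  (faithfulSMul_iff_algebraMap_injective _ _).mpr (algebraMap_kummer_injective R t n hn)

include hn hf in
theorem T_ne_zero (j : Fin r) : T t n j ≠ 0 := by
  intro h0
  have h1 := T_pow t n j
  rw [h0, zero_pow (by have := hn j; omega)] at h1
  exact ne_zero_of_linearIndependent t hm hf j
    (algebraMap_kummer_injective R t n hn (by rw [← h1, map_zero]))

include hm hf hn in
theorem isPrime_span_T (j : Fin r) : (Ideal.span ({T t n j} : Set (SGA1.kummerAlg R t n))).IsPrime :=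
  span_singleton_isPrime_of_linearIndependent (T t n) (T_mem_maximalIdeal R t hm n hn)
    (linearIndependent_T R t hm hf n hn) j

include hn in
/-- `∏ t_i` lies in the contraction of a prime iff `∏ T_i` lies in the prime. -/
theorem prod_t_mem_under_iff (𝔓 : Ideal (SGA1.kummerAlg R t n)) [𝔓.IsPrime] :
    (∏ i, t i) ∈ 𝔓.under R ↔ (∏ i, T t n i) ∈ 𝔓 := by
  rw [Ideal.under_def, Ideal.mem_comap, map_prod, Ideal.IsPrime.prod_mem_iff,
    Ideal.IsPrime.prod_mem_iff]
  constructor
  · rintro ⟨j, -, hj⟩
    rw [← T_pow t n j] at hj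
    exact ⟨j, Finset.mem_univ _, Ideal.IsPrime.mem_of_pow_mem inferInstance _ hj⟩
  · rintro ⟨j, -, hj⟩
    refine ⟨j, Finset.mem_univ _, ?_⟩
    rw [← T_pow t n j]
    exact Ideal.pow_mem_of_mem _ hj _ (by have := hn j; omega)

include hm hf hn in
/-- the prime `(T_j)` lies over `(t_j)`. -/
theorem liesOver_span_T (j : Fin r) [(Ideal.span ({t j} : Set R)).IsPrime]
    [(Ideal.span ({T t n j} : Set (SGA1.kummerAlg R t n))).IsPrime] :
    (Ideal.span ({T t n j} : Set (SGA1.kummerAlg R t n))).LiesOver (Ideal.span ({t j} : Set R)) := by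
  haveI := faithfulSMul_kummer R t n hn
  haveI := isIntegral_kummer R t n hn
  haveI : IsIntegrallyClosed R := Groth.Agent.S9829.result R
  have h1 : (Ideal.span ({T t n j} : Set (SGA1.kummerAlg R t n))).height = 1 :=
    height_span_singleton _ (T_ne_zero R t hm hf n hn j)
  have h2 := height_under_eq_one R (SGA1.kummerAlg R t n) _ h1
  have h3 : t j ∈ (Ideal.span ({T t n j} : Set (SGA1.kummerAlg R t n))).under R := by
    rw [Ideal.under_def, Ideal.mem_comap, ← T_pow t n j]
    exact Ideal.pow_mem_of_mem _ (Ideal.mem_span_singleton_self _) _ (by have := hn j; omega)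
  exact ⟨eq_span_of_mem _ h2 (t j) (ne_zero_of_linearIndependent t hm hf j) h3⟩

include hm hf hn hcompat hgen in
set_option maxHeartbeats 1000000 in
/-- **Lemma A**: composita with Kummer extensions stay good. -/
theorem Good.kummer (hG : Good R t L) : Good (SGA1.kummerAlg R t n) (T t n) M := by
  haveI := faithfulSMul_kummer R t n hn
  haveI := isIntegral_kummer R t n hn
  haveI : IsIntegrallyClosed R := Groth.Agent.S9829.result R
  obtain ⟨hfinM, hsepM⟩ := finsep_baseChange R (SGA1.kummerAlg R t n) L M i hcompat hgen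
    hG.fin hG.sep
  refine ⟨hfinM, hsepM, ?_, ?_⟩
  · intro 𝔓 _ h𝔓 hprod
    have h1 := height_under_eq_one R (SGA1.kummerAlg R t n) 𝔓 h𝔓
    have h2 : (∏ i, t i) ∉ 𝔓.under R := fun h =>
      hprod ((prod_t_mem_under_iff R t n hn 𝔓).mp h)
    haveI := isDVR_of_height_eq_one R (𝔓.under R) h1
    haveI := isDVR_of_height_eq_one (SGA1.kummerAlg R t n) 𝔓 h𝔓
    exact unram_baseChange R (SGA1.kummerAlg R t n) (𝔓.under R) 𝔓 L M i hcompat hgen
      hG.fin hG.sep (hG.unram (𝔓.under R) h1 h2)
  · intro j _
    haveI := span_singleton_isPrime_of_linearIndependent t hm hf j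
    haveI := liesOver_span_T R t hm hf n hn j
    have h1 : (Ideal.span ({T t n j} : Set (SGA1.kummerAlg R t n))).height = 1 :=
      height_span_singleton _ (T_ne_zero R t hm hf n hn j)
    have h2 : (Ideal.span ({t j} : Set R)).height = 1 :=
      height_span_singleton _ (ne_zero_of_linearIndependent t hm hf j)
    haveI := isDVR_of_height_eq_one R _ h2
    haveI := isDVR_of_height_eq_one (SGA1.kummerAlg R t n) _ h1
    exact tame_baseChange R (SGA1.kummerAlg R t n) (Ideal.span ({t j} : Set R))
      (Ideal.span ({T t n j} : Set (SGA1.kummerAlg R t n))) L M i hcompat hgen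
      hG.fin hG.sep hfinM hsepM (hG.tame j)

include hm hf hn hcompat hgen in
set_option maxHeartbeats 1000000 in
/-- **Lemma B**: if the exponents are multiples of the ramification indices, composita with the
Kummer extension are unramified in codimension one. -/
theorem Good.unram_kummer (hG : Good R t L)
    (hdiv : ∀ (j : Fin r) [(Ideal.span ({t j} : Set R)).IsPrime] (V : ValuationSubring L)
      (hdom : Dominates (Localization.AtPrime (Ideal.span ({t j} : Set R)))
        (locLift R L (Ideal.span ({t j} : Set R))) V),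
      eV (locLift R L (Ideal.span ({t j} : Set R))) V hdom ∣ n j)
    (𝔓 : Ideal (SGA1.kummerAlg R t n)) [𝔓.IsPrime] (h𝔓 : 𝔓.height = 1) :
    IsUnramifiedExt (Localization.AtPrime 𝔓) (locLift (SGA1.kummerAlg R t n) M 𝔓) := by
  have hG' := Good.kummer R t hm hf n hn L M i hcompat hgen hG
  by_cases hprod : (∏ i, T t n i) ∈ 𝔓
  · rw [Ideal.IsPrime.prod_mem_iff] at hprod
    obtain ⟨j, -, hj⟩ := hprod
    haveI := faithfulSMul_kummer R t n hn
    haveI := span_singleton_isPrime_of_linearIndependent t hm hf j
    haveI := isPrime_span_T R t hm hf n hn j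
    haveI := liesOver_span_T R t hm hf n hn j
    have heq : Ideal.span ({T t n j} : Set (SGA1.kummerAlg R t n)) = 𝔓 :=
      eq_span_of_mem 𝔓 h𝔓 _ (T_ne_zero R t hm hf n hn j) hj
    have h1 : (Ideal.span ({T t n j} : Set (SGA1.kummerAlg R t n))).height = 1 :=
      height_span_singleton _ (T_ne_zero R t hm hf n hn j)
    have h2 : (Ideal.span ({t j} : Set R)).height = 1 :=
      height_span_singleton _ (ne_zero_of_linearIndependent t hm hf j)
    haveI := isDVR_of_height_eq_one R _ h2
    haveI := isDVR_of_height_eq_one (SGA1.kummerAlg R t n) _ h1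
    have hπ : Irreducible (algebraMap R (Localization.AtPrime (Ideal.span ({t j} : Set R)))
        (t j)) := by
      rw [IsDiscreteValuationRing.irreducible_iff_uniformizer,
        ← Localization.AtPrime.map_eq_maximalIdeal, Ideal.map_span, Set.image_singleton]
    have key := abh_baseChange R (SGA1.kummerAlg R t n) (Ideal.span ({t j} : Set R))
      (Ideal.span ({T t n j} : Set (SGA1.kummerAlg R t n))) L M i hcompat hgen
      hG.fin hG.sep (hG.tame j) (t j) hπ (T t n j) (n j) (hn j) (T_pow t n j).symm (hdiv j)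
    subst heq
    exact key
  · exact hG'.unram 𝔓 h𝔓 hprod

end Kummer

end Groth.Agent.Lib.Helper9.AbhAbs
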