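import Mathlib
import Groth.Prelude.Def_SGA1
import Groth.Agent.Lib.Helper9.KummerTame.Etale

/-!
# The universal property of Kummer algebras (helper9)
-/

universe u

open MvPolynomial

namespace Groth.Agent.Lib.Helper9.AbhAbs

open Groth.Agent.Lib.Helper9.KummerTame

variable {R : Type u} [CommRing R] {r : ℕ} (f : Fin r → R) (n : Fin r → ℕ)
  {S : Type*} [CommRing S] (g : R →+* S) (s : Fin r → S) (hs : ∀ i, s i ^ n i = g (f i))

/-- ring homs out of a Kummer algebra. -/
noncomputable def kummerLift : SGA1.kummerAlg R f n →+* S :=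
  Ideal.Quotient.lift _ (MvPolynomial.eval₂Hom g s) (by
    intro a ha
    have hle : Ideal.span (Set.range fun i => (X i : MvPolynomial (Fin r) R) ^ n i - C (f i)) ≤
        RingHom.ker (MvPolynomial.eval₂Hom g s) := by
      rw [Ideal.span_le]
      rintro _ ⟨i, rfl⟩
      show MvPolynomial.eval₂Hom g s _ = 0
      rw [map_sub, map_pow, MvPolynomial.eval₂Hom_X', MvPolynomial.eval₂Hom_C, hs, sub_self]
    exact hle ha)

theorem kummerLift_algebraMap (a : R) :
    kummerLift f n g s hs (algebraMap R (SGA1.kummerAlg R f n) a) = g a := by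
  rw [algebraMap_eq_mk_C]
  show Ideal.Quotient.lift _ (MvPolynomial.eval₂Hom g s) _ (Ideal.Quotient.mk _ (C a)) = g a
  rw [Ideal.Quotient.lift_mk, MvPolynomial.eval₂Hom_C]

theorem kummerLift_T (i : Fin r) : kummerLift f n g s hs (T f n i) = s i := by
  show Ideal.Quotient.lift _ (MvPolynomial.eval₂Hom g s) _ (Ideal.Quotient.mk _ (X i)) = s i
  rw [Ideal.Quotient.lift_mk, MvPolynomial.eval₂Hom_X']

/-- the image of a Kummer algebra is contained in any subring containing the generators. -/
theorem kummerLift_mem (E : Subring S) (hg : ∀ a, g a ∈ E) (hsE : ∀ i, s i ∈ E)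
    (x : SGA1.kummerAlg R f n) : kummerLift f n g s hs x ∈ E := by
  induction x using kummer_induction with
  | hC a => rw [kummerLift_algebraMap]; exact hg a
  | hadd x y hx hy => rw [map_add]; exact add_mem hx hy
  | hmul x j hx => rw [map_mul, kummerLift_T]; exact mul_mem hx (hsE j)

/-- two ring homs out of a Kummer algebra agreeing on the generators agree. -/
theorem kummer_ringHom_ext {φ ψ : SGA1.kummerAlg R f n →+* S}
    (h1 : ∀ a, φ (algebraMap R _ a) = ψ (algebraMap R _ a)) (h2 : ∀ i, φ (T f n i) = ψ (T f n i)) :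
    φ = ψ := by
  refine RingHom.ext fun x => ?_
  induction x using kummer_induction with
  | hC a => exact h1 a
  | hadd x y hx hy => rw [map_add, map_add, hx, hy]
  | hmul x j hx => rw [map_mul, map_mul, hx, h2]

end Groth.Agent.Lib.Helper9.AbhAbs
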