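import Mathlib
import Groth.Prelude.Def_EtRam
import Groth.Agent.Lib.Helper9.AbhyankarCore
import Groth.Agent.Lib.Helper9.TameBase

/-!
# `p`-th roots, separability and prime elements (helper9)
-/

universe u

open IsLocalRing EtRam Polynomial

namespace Groth.Agent.Lib.Helper9.AbhAbs

/-- a nontrivial ring in which the prime `p` vanishes, and which is a domain, has characteristic `p`. -/
theorem charP_of_prime_cast_eq_zero (F : Type*) [CommRing F] [IsDomain F] (p : ℕ) (hp : p.Prime)
    (h : (p : F) = 0) : CharP F p := by
  have h1 : ringChar F ∣ p := ringChar.dvd h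
  rcases (Nat.dvd_prime hp).mp h1 with h2 | h2
  · exact absurd h2 (CharP.ringChar_ne_one)
  · exact ringChar.of_eq h2

/-- **L1**: a separable element whose `p`-th power lies in the base field (of characteristic `p`)
lies in the base field. -/
theorem mem_range_of_isSeparable_of_pow_eq {F E : Type*} [Field F] [Field E] [Algebra F E] (p : ℕ)
    [hp : Fact p.Prime] [CharP F p] (s : E) (hs : IsSeparable F s) (a : F)
    (hsa : s ^ p = algebraMap F E a) : s ∈ (algebraMap F E).range := by
  haveI : CharP E p := charP_of_injective_algebraMap (algebraMap F E).injective p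
  have hint : IsIntegral F s := hs.isIntegral
  rw [← minpoly.natDegree_eq_one_iff]
  have hdvd : minpoly F s ∣ (X ^ p - C a : F[X]) := by
    apply minpoly.dvd
    rw [map_sub, map_pow, aeval_X, aeval_C, hsa, sub_self]
  have hdvd' : (minpoly F s).map (algebraMap F E) ∣ (X - C s : E[X]) ^ p := by
    have h1 := Polynomial.map_dvd (algebraMap F E) hdvd
    rw [Polynomial.map_sub, Polynomial.map_pow, Polynomial.map_X, Polynomial.map_C, ← hsa] at h1
    have h2 : (X - C s : E[X]) ^ p = X ^ p - C (s ^ p) := by
      rw [sub_pow_char, ← C_pow]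
    rw [h2]
    exact h1
  have hsq : Squarefree ((minpoly F s).map (algebraMap F E)) :=
    (Polynomial.Separable.map (f := algebraMap F E) hs).squarefree
  have h3 : (minpoly F s).map (algebraMap F E) ∣ (X - C s : E[X]) := hsq.isRadical p _ hdvd'
  have h4 : ((minpoly F s).map (algebraMap F E)).natDegree ≤ 1 := by
    have := Polynomial.natDegree_le_of_dvd h3 (X_sub_C_ne_zero s)
    rwa [natDegree_X_sub_C] at this
  rw [Polynomial.natDegree_map] at h4
  have h5 := minpoly.natDegree_pos hint
  omega

/-- **L2**: a nonzero prime element of a normal domain is not a `p`-th power (`p ≥ 2`) in the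
fraction field. -/
theorem not_pow_eq_of_prime_span {D : Type*} [CommRing D] [IsDomain D] [IsIntegrallyClosed D]
    (K : Type*) [Field K] [Algebra D K] [IsFractionRing D K] (x : D) (hx0 : x ≠ 0)
    [hx : (Ideal.span ({x} : Set D)).IsPrime] (p : ℕ) (hp : 2 ≤ p) (y : K)
    (hy : y ^ p = algebraMap D K x) : False := by
  have hint : IsIntegral D y := by
    refine ⟨X ^ p - C x, monic_X_pow_sub_C x (by omega), ?_⟩
    rw [eval₂_sub, eval₂_pow, eval₂_X, eval₂_C, hy, sub_self]
  obtain ⟨z, rfl⟩ := IsIntegrallyClosed.algebraMap_eq_of_integral hint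
  have hz : z ^ p = x := by
    apply IsFractionRing.injective D K
    rw [map_pow, hy]
  have hzmem : z ∈ Ideal.span ({x} : Set D) := by
    apply hx.mem_of_pow_mem p
    rw [hz]
    exact Ideal.mem_span_singleton_self x
  obtain ⟨w, hw⟩ := Ideal.mem_span_singleton'.mp hzmem
  -- x = (w x)^p = w^p x^p
  have h1 : x * (w ^ p * x ^ (p - 1)) = x * 1 := by
    rw [mul_one]
    conv_rhs => rw [← hz, ← hw, mul_pow]
    have : x ^ p = x * x ^ (p - 1) := by
      rw [← pow_succ']
      congr 1
      omega
    rw [this]
    ring
  have h2 : w ^ p * x ^ (p - 1) = 1 := mul_left_cancel₀ hx0 h1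
  have h3 : IsUnit x := by
    have : x ^ (p - 1) = x * x ^ (p - 2) := by
      rw [← pow_succ']
      congr 1
      omega
    rw [this] at h2
    exact isUnit_iff_exists_inv.mpr ⟨x ^ (p - 2) * w ^ p, by rw [← h2]; ring⟩
  exact hx.ne_top (Ideal.span_singleton_eq_top.mpr h3)

section Residue

variable (A : Type u) [CommRing A] [IsLocalRing A] {N : Type u} [Field N] (g : A →+* N)

/-- **L3**: a `p`-th root, in a field with separable residue extensions over the local ring `A` of
residue characteristic `p`, of an element of `A`, forces that element to be a `p`-th power modulo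
the maximal ideal. -/
theorem exists_pth_root_residue
    (hsep : ∀ (V : ValuationSubring N) (h : Dominates A g V),
      letI : Algebra A V := (RingHom.codRestrict g V h.1).toAlgebra
      ∀ [IsLocalHom (algebraMap A V)],
        Algebra.IsSeparable (ResidueField A) (ResidueField V))
    (p : ℕ) [hp : Fact p.Prime] [CharP (ResidueField A) p] (u : A) (S : N) (hS : S ^ p = g u) :
    ∃ c : A, u - c ^ p ∈ maximalIdeal A := by
  classical
  obtain ⟨V, hV, hloc⟩ := IsLocalRing.exists_factor_valuationRing g
  have hdom : Dominates A g V := by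
    refine ⟨hV, fun a ha => ?_⟩
    have h1 : ¬ IsUnit (g.codRestrict V.toSubring hV a) := fun hu => ha (hloc.map_nonunit a hu)
    have h2 : (g.codRestrict V.toSubring hV a) ∈ maximalIdeal V := h1
    exact (V.valuation_lt_one_iff _).mp h2
  letI algV : Algebra A V := (RingHom.codRestrict g V hdom.1).toAlgebra
  haveI hlocV : IsLocalHom (algebraMap A V) :=
    Groth.Agent.Lib.Helper9.TameBase.isLocalHom_of_dominates _ V hdom
  haveI hsepV : Algebra.IsSeparable (ResidueField A) (ResidueField V) := @hsep V hdom hlocV
  have hSV : S ∈ V := by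
    apply Groth.Agent.Lib.Helper9.AbhyankarCore.valuation_le_one_of_pow V hp.out.ne_zero
    rw [hS]
    exact hdom.1 u
  have hpow : (residue V ⟨S, hSV⟩) ^ p =
      algebraMap (ResidueField A) (ResidueField V) (residue A u) := by
    rw [← map_pow]
    show _ = IsLocalRing.ResidueField.map (algebraMap A V) (residue A u)
    rw [IsLocalRing.ResidueField.map_residue]
    congr 1
    exact Subtype.ext hS
  obtain ⟨cb, hcb⟩ := mem_range_of_isSeparable_of_pow_eq p (residue V ⟨S, hSV⟩)
    (Algebra.IsSeparable.isSeparable (ResidueField A) _) (residue A u) hpow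
  obtain ⟨c, rfl⟩ := residue_surjective cb
  refine ⟨c, ?_⟩
  rw [← residue_eq_zero_iff]
  apply (algebraMap (ResidueField A) (ResidueField V)).injective
  rw [map_zero, map_sub, map_sub, map_pow, map_pow, ← hpow, hcb, sub_self]

end Residue

end Groth.Agent.Lib.Helper9.AbhAbs
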