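import Mathlib
import Groth.Prelude.Def_EtRam
import Groth.Agent.S9306
import Groth.Agent.Lib.Helper9.AbhAbs.Ctx
import Groth.Agent.Lib.Helper9.AbhAbs.PthRoot

/-!
# A `p`-th root of a "regular parameter" is ramified at the primes of residue characteristic `p`
(helper9)
-/

universe u

open IsLocalRing EtRam Polynomial

namespace Groth.Agent.Lib.Helper9.AbhAbs

section

variable (B : Type u) [CommRing B] [IsDomain B] (𝔓 : Ideal B) [𝔓.IsPrime]
  [IsDiscreteValuationRing (Localization.AtPrime 𝔓)]
  (p : ℕ) [hp : Fact p.Prime] (hp𝔓 : (p : B) ∈ 𝔓) (τ : B)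
  (B₁ : Type u) [CommRing B₁] [IsDomain B₁] [IsIntegrallyClosed B₁] [Algebra B B₁]
  (S₁ : B₁) (hS₁ : S₁ ^ p = algebraMap B B₁ τ)
  (hindep : ∀ s c : B, s • S₁ - algebraMap B B₁ c ∈ 𝔓.map (algebraMap B B₁) → s ∈ 𝔓)
  (N : Type u) [Field N] [Algebra B N] [FaithfulSMul B N] [Algebra B₁ N] [IsScalarTower B B₁ N]
  [IsFractionRing B₁ N]
  (hfin : letI := FractionRing.liftAlgebra B N; FiniteDimensional (FractionRing B) N)
  (hsep : letI := FractionRing.liftAlgebra B N; Algebra.IsSeparable (FractionRing B) N)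

include hp𝔓 hS₁ hindep hfin hsep in
set_option maxHeartbeats 2000000 in
/-- **Case (a)**: the field `Frac B₁ ∋ S₁` with `S₁^p = τ` cannot be unramified over `B_𝔓` when
`𝔓 ∋ p`, as soon as `1, S₁` are independent modulo `𝔓 B₁` and `B₁` is normal. -/
theorem no_unramified_pth_root
    (h : IsUnramifiedExt (Localization.AtPrime 𝔓) (locLift B N 𝔓)) : False := by
  classical
  letI algAK : Algebra (Localization.AtPrime 𝔓) (FractionRing B) :=
    (locLift B (FractionRing B) 𝔓).toAlgebra
  haveI towRAK : IsScalarTower B (Localization.AtPrime 𝔓) (FractionRing B) :=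
    IsScalarTower.of_algebraMap_eq (fun a => (locLift_algebraMap B (FractionRing B) 𝔓 a).symm)
  haveI : IsFractionRing (Localization.AtPrime 𝔓) (FractionRing B) :=
    IsFractionRing.isFractionRing_of_isDomain_of_isLocalization 𝔓.primeCompl _ _
  letI algKN : Algebra (FractionRing B) N := FractionRing.liftAlgebra B N
  haveI : IsScalarTower B (FractionRing B) N := FractionRing.isScalarTower_liftAlgebra B N
  letI algAN : Algebra (Localization.AtPrime 𝔓) N := (locLift B N 𝔓).toAlgebra
  haveI towBAN : IsScalarTower B (Localization.AtPrime 𝔓) N :=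
    IsScalarTower.of_algebraMap_eq (fun a => (locLift_algebraMap B N 𝔓 a).symm)
  haveI towAKN : IsScalarTower (Localization.AtPrime 𝔓) (FractionRing B) N := by
    apply IsScalarTower.of_algebraMap_eq'
    apply locRingHom_ext B 𝔓
    intro a
    rw [RingHom.comp_apply, ← IsScalarTower.algebraMap_apply B (Localization.AtPrime 𝔓) (FractionRing B),
      ← IsScalarTower.algebraMap_apply B (FractionRing B) N]
    exact locLift_algebraMap B N 𝔓 a
  haveI : FiniteDimensional (FractionRing B) N := hfin
  haveI : Algebra.IsSeparable (FractionRing B) N := hsep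
  haveI hC : Algebra.Etale (Localization.AtPrime 𝔓) (integralClosure (Localization.AtPrime 𝔓) N) :=
    Groth.Agent.S9306.etale_integralClosure (Localization.AtPrime 𝔓) (FractionRing B) N h
  haveI hCfin : Module.Finite (Localization.AtPrime 𝔓)
      (integralClosure (Localization.AtPrime 𝔓) N) :=
    IsIntegralClosure.finite (Localization.AtPrime 𝔓) (FractionRing B) N _
  -- residue characteristic
  have hpA : (p : Localization.AtPrime 𝔓) ∈ maximalIdeal (Localization.AtPrime 𝔓) := by
    have h1 : algebraMap B (Localization.AtPrime 𝔓) (p : B) ∈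
        maximalIdeal (Localization.AtPrime 𝔓) :=
      (IsLocalization.AtPrime.to_map_mem_maximal_iff (Localization.AtPrime 𝔓) 𝔓 _).mpr hp𝔓
    rwa [map_natCast] at h1
  haveI : CharP (ResidueField (Localization.AtPrime 𝔓)) p :=
    charP_of_prime_cast_eq_zero _ p hp.out (by
      rw [← map_natCast (residue (Localization.AtPrime 𝔓)), residue_eq_zero_iff]
      exact hpA)
  -- step 1: the residue of `τ` is a `p`-th power
  have hS : (algebraMap B₁ N S₁) ^ p =
      locLift B N 𝔓 (algebraMap B (Localization.AtPrime 𝔓) τ) := by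
    rw [locLift_algebraMap, ← map_pow, hS₁, ← IsScalarTower.algebraMap_apply]
  obtain ⟨c, hc⟩ := exists_pth_root_residue (Localization.AtPrime 𝔓) (locLift B N 𝔓)
    (fun V hV => by intro inst; exact (@h V hV inst).2) p
    (algebraMap B (Localization.AtPrime 𝔓) τ) (algebraMap B₁ N S₁) hS
  -- step 2: inside the integral closure
  have hSint : IsIntegral (Localization.AtPrime 𝔓) (algebraMap B₁ N S₁) := by
    refine ⟨X ^ p - C (algebraMap B (Localization.AtPrime 𝔓) τ),
      monic_X_pow_sub_C _ hp.out.ne_zero, ?_⟩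
    rw [eval₂_sub, eval₂_pow, eval₂_X, eval₂_C, hS]
    exact sub_self _
  obtain ⟨SC, hSC⟩ : ∃ SC : integralClosure (Localization.AtPrime 𝔓) N,
      (SC : N) = algebraMap B₁ N S₁ := ⟨⟨_, hSint⟩, rfl⟩
  have hSCpow : SC ^ p = algebraMap (Localization.AtPrime 𝔓) _
      (algebraMap B (Localization.AtPrime 𝔓) τ) := by
    apply Subtype.ext
    rw [SubmonoidClass.coe_pow, hSC, hS]
    rfl
  have key : SC - algebraMap (Localization.AtPrime 𝔓) _ c ∈
      (maximalIdeal (Localization.AtPrime 𝔓)).map
        (algebraMap (Localization.AtPrime 𝔓) (integralClosure (Localization.AtPrime 𝔓) N)) := by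
    letI : Field (Localization.AtPrime 𝔓 ⧸ maximalIdeal (Localization.AtPrime 𝔓)) :=
      Ideal.Quotient.field _
    haveI : Algebra.FormallyUnramified (Localization.AtPrime 𝔓)
        (integralClosure (Localization.AtPrime 𝔓) N) := inferInstance
    haveI : Algebra.FormallyUnramified (Localization.AtPrime 𝔓 ⧸ maximalIdeal (Localization.AtPrime 𝔓))
        (integralClosure (Localization.AtPrime 𝔓) N ⧸
          (maximalIdeal (Localization.AtPrime 𝔓)).map
            (algebraMap (Localization.AtPrime 𝔓) (integralClosure (Localization.AtPrime 𝔓) N))) :=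
      Algebra.FormallyUnramified.of_restrictScalars (Localization.AtPrime 𝔓) _ _
    haveI : Module.Finite (Localization.AtPrime 𝔓 ⧸ maximalIdeal (Localization.AtPrime 𝔓))
        (integralClosure (Localization.AtPrime 𝔓) N ⧸
          (maximalIdeal (Localization.AtPrime 𝔓)).map
            (algebraMap (Localization.AtPrime 𝔓) (integralClosure (Localization.AtPrime 𝔓) N))) :=
      Module.Finite.of_restrictScalars_finite (Localization.AtPrime 𝔓) _ _
    haveI : IsReduced (integralClosure (Localization.AtPrime 𝔓) N ⧸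
          (maximalIdeal (Localization.AtPrime 𝔓)).map
            (algebraMap (Localization.AtPrime 𝔓) (integralClosure (Localization.AtPrime 𝔓) N))) :=
      Algebra.FormallyUnramified.isReduced_of_field
        (Localization.AtPrime 𝔓 ⧸ maximalIdeal (Localization.AtPrime 𝔓))
        (integralClosure (Localization.AtPrime 𝔓) N ⧸
          (maximalIdeal (Localization.AtPrime 𝔓)).map
            (algebraMap (Localization.AtPrime 𝔓) (integralClosure (Localization.AtPrime 𝔓) N)))
    rw [← Ideal.Quotient.eq_zero_iff_mem]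
    apply IsReduced.eq_zero
    refine ⟨p, ?_⟩
    rw [← map_pow, Ideal.Quotient.eq_zero_iff_mem]
    obtain ⟨ρ, hρ⟩ := exists_add_pow_prime_eq hp.out
      (SC - algebraMap (Localization.AtPrime 𝔓) _ c) (algebraMap (Localization.AtPrime 𝔓) _ c)
    rw [sub_add_cancel] at hρ
    have h1 : (SC - algebraMap (Localization.AtPrime 𝔓) _ c) ^ p =
        algebraMap (Localization.AtPrime 𝔓) _
          (algebraMap B (Localization.AtPrime 𝔓) τ - c ^ p) -
        algebraMap (Localization.AtPrime 𝔓) _ (p : Localization.AtPrime 𝔓) *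
          ((SC - algebraMap (Localization.AtPrime 𝔓) _ c) *
            algebraMap (Localization.AtPrime 𝔓) _ c * ρ) := by
      rw [map_sub, map_pow, ← hSCpow, hρ, map_natCast]
      ring
    rw [h1]
    apply Ideal.sub_mem
    · exact Ideal.mem_map_of_mem _ hc
    · exact Ideal.mul_mem_right _ _ (Ideal.mem_map_of_mem _ hpA)
  -- step 3: a uniformizer coming from `B`
  obtain ⟨ϖ, hϖ⟩ := IsDiscreteValuationRing.exists_irreducible (Localization.AtPrime 𝔓)
  obtain ⟨⟨ϖ₀, s₀⟩, hϖ₀⟩ := IsLocalization.surj 𝔓.primeCompl ϖ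
  simp only at hϖ₀
  have hs₀u : IsUnit (algebraMap B (Localization.AtPrime 𝔓) s₀) :=
    IsLocalization.map_units _ s₀
  have hmax : maximalIdeal (Localization.AtPrime 𝔓) =
      Ideal.span {algebraMap B (Localization.AtPrime 𝔓) ϖ₀} := by
    rw [hϖ.maximalIdeal_eq, ← hϖ₀]
    exact (Ideal.span_singleton_mul_right_unit hs₀u ϖ).symm
  have hϖ₀𝔓 : ϖ₀ ∈ 𝔓 := by
    rw [← IsLocalization.AtPrime.to_map_mem_maximal_iff (Localization.AtPrime 𝔓) 𝔓, hmax]
    exact Ideal.mem_span_singleton_self _
  rw [hmax, Ideal.map_span, Set.image_singleton, Ideal.mem_span_singleton'] at key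
  obtain ⟨w, hw⟩ := key
  -- step 4: clear denominators
  obtain ⟨⟨c', s₂⟩, hc'⟩ := IsLocalization.surj 𝔓.primeCompl c
  simp only at hc'
  -- in `N`: S - c = ϖ₀ w
  have hN : algebraMap B₁ N S₁ - algebraMap (Localization.AtPrime 𝔓) N c =
      algebraMap B N ϖ₀ * (w : N) := by
    have h1 : ((w * algebraMap (Localization.AtPrime 𝔓) (integralClosure (Localization.AtPrime 𝔓) N)
        (algebraMap B (Localization.AtPrime 𝔓) ϖ₀) : integralClosure (Localization.AtPrime 𝔓) N) : N)
        = ((SC - algebraMap (Localization.AtPrime 𝔓) _ c :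
          integralClosure (Localization.AtPrime 𝔓) N) : N) := congrArg _ hw
    have h2 : ((w * algebraMap (Localization.AtPrime 𝔓) (integralClosure (Localization.AtPrime 𝔓) N)
        (algebraMap B (Localization.AtPrime 𝔓) ϖ₀) : integralClosure (Localization.AtPrime 𝔓) N) : N)
        = (w : N) * algebraMap B N ϖ₀ := by
      rw [IsScalarTower.algebraMap_apply B (Localization.AtPrime 𝔓) N]
      rfl
    have h3 : ((SC - algebraMap (Localization.AtPrime 𝔓) _ c :
          integralClosure (Localization.AtPrime 𝔓) N) : N) =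
        algebraMap B₁ N S₁ - algebraMap (Localization.AtPrime 𝔓) N c := by
      rw [← hSC]
      rfl
    rw [← h3, ← h1, h2, mul_comm]
  have hwint : IsIntegral (Localization.AtPrime 𝔓) ((s₂ : B) • (w : N)) := by
    rw [Algebra.smul_def]
    exact IsIntegral.mul (IsIntegral.tower_top (A := Localization.AtPrime 𝔓) isIntegral_algebraMap)
      w.2
  obtain ⟨⟨s₁, hs₁⟩, hs₁w⟩ := IsIntegral.exists_multiple_integral_of_isLocalization 𝔓.primeCompl
    ((s₂ : B) • (w : N)) hwint
  have hs₁w' : IsIntegral B₁ (s₁ • ((s₂ : B) • (w : N))) := IsIntegral.tower_top hs₁w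
  obtain ⟨b, hb⟩ := IsIntegrallyClosed.algebraMap_eq_of_integral hs₁w'
  -- the identity in `B₁`
  have hid : (s₁ * s₂) • S₁ - algebraMap B B₁ (s₁ * c') = algebraMap B B₁ ϖ₀ * b := by
    apply IsFractionRing.injective B₁ N
    have hc'' : algebraMap (Localization.AtPrime 𝔓) N c * algebraMap B N s₂ = algebraMap B N c' := by
      rw [IsScalarTower.algebraMap_apply B (Localization.AtPrime 𝔓) N s₂, ← map_mul, hc',
        ← IsScalarTower.algebraMap_apply]
    have hS' : algebraMap B₁ N S₁ = algebraMap (Localization.AtPrime 𝔓) N c +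
        algebraMap B N ϖ₀ * (w : N) := by rw [← hN]; ring
    have e1 : algebraMap B₁ N ((s₁ * s₂) • S₁) =
        algebraMap B N s₁ * algebraMap B N s₂ * algebraMap B₁ N S₁ := by
      rw [Algebra.smul_def, map_mul, ← IsScalarTower.algebraMap_apply, map_mul]
    have e2 : algebraMap B₁ N (algebraMap B B₁ (s₁ * c')) =
        algebraMap B N s₁ * algebraMap B N c' := by
      rw [← IsScalarTower.algebraMap_apply, map_mul]
    have e3 : algebraMap B₁ N (algebraMap B B₁ ϖ₀ * b) =
        algebraMap B N ϖ₀ * (algebraMap B N s₁ * (algebraMap B N s₂ * (w : N))) := by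
      rw [map_mul, hb, ← IsScalarTower.algebraMap_apply]
      congr 1
      show s₁ • ((s₂ : B) • (w : N)) = _
      rw [Algebra.smul_def, Algebra.smul_def]
    rw [map_sub, e1, e2, e3, hS', ← hc'']
    ring
  have hmem : (s₁ * s₂) • S₁ - algebraMap B B₁ (s₁ * c') ∈ 𝔓.map (algebraMap B B₁) := by
    rw [hid]
    exact Ideal.mul_mem_right _ _ (Ideal.mem_map_of_mem _ hϖ₀𝔓)
  have := hindep _ _ hmem
  rcases (inferInstance : 𝔓.IsPrime).mem_or_mem this with h1 | h1
  · exact hs₁ h1
  · exact s₂.2 h1

end

end Groth.Agent.Lib.Helper9.AbhAbs
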