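import Mathlib
import Groth.Prelude.Def_EtRam
import Groth.Prelude.Def_SGA1
import Groth.Agent.Lib.Helper9.AbhAbs.Good
import Groth.Agent.Lib.Helper9.AbhAbs.KummerLift
import Groth.Agent.Lib.Helper9.AbhAbs.PPartA

/-!
# Lemma Y: a `p`-th root of a regular parameter never generates a good extension (helper9)
-/

universe u

open IsLocalRing EtRam Polynomial

namespace Groth.Agent.Lib.Helper9.AbhAbs

open Groth.Agent.Lib.Helper9.KummerTame

/-- exponent `p` at `j₀` and `1` elsewhere. -/
def pExp {r : ℕ} (p : ℕ) (j₀ : Fin r) : Fin r → ℕ := fun j => if j = j₀ then p else 1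

theorem pExp_self {r : ℕ} (p : ℕ) (j₀ : Fin r) : pExp p j₀ j₀ = p := by simp [pExp]

theorem pExp_ne {r : ℕ} (p : ℕ) {j₀ j : Fin r} (h : j ≠ j₀) : pExp p j₀ j = 1 := by simp [pExp, h]

theorem one_le_pExp {r : ℕ} (p : ℕ) (hp : 1 ≤ p) (j₀ j : Fin r) : 1 ≤ pExp p j₀ j := by
  unfold pExp
  split_ifs <;> omega

section Indep

variable (B : Type u) [CommRing B] {r : ℕ} (T' : Fin r → B) (p : ℕ) (hp2 : 2 ≤ p) (j₀ : Fin r)

include hp2 in
set_option maxHeartbeats 1000000 in
/-- `1` and `T_{j₀}` are independent modulo a prime of the base, in the Kummer algebra adjoining a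
`p`-th root of `T'_{j₀}`. -/
theorem kummer_indep (𝔓 : Ideal B) [𝔓.IsPrime] (s c : B)
    (h : algebraMap B (SGA1.kummerAlg B T' (pExp p j₀)) s * T T' (pExp p j₀) j₀ -
        algebraMap B (SGA1.kummerAlg B T' (pExp p j₀)) c ∈
      𝔓.map (algebraMap B (SGA1.kummerAlg B T' (pExp p j₀)))) : s ∈ 𝔓 := by
  classical
  obtain ⟨f, hfdef⟩ : ∃ f : (B ⧸ 𝔓)[X], f = X ^ p - C (Ideal.Quotient.mk 𝔓 (T' j₀)) := ⟨_, rfl⟩
  have hfm : f.Monic := by rw [hfdef]; exact monic_X_pow_sub_C _ (by omega)
  have hfdeg : f.natDegree = p := by rw [hfdef]; exact natDegree_X_pow_sub_C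
  let g : B →+* AdjoinRoot f := (AdjoinRoot.of f).comp (Ideal.Quotient.mk 𝔓)
  let s' : Fin r → AdjoinRoot f := fun j =>
    if j = j₀ then AdjoinRoot.root f else AdjoinRoot.of f (Ideal.Quotient.mk 𝔓 (T' j))
  have hroot : AdjoinRoot.root f ^ p = AdjoinRoot.of f (Ideal.Quotient.mk 𝔓 (T' j₀)) := by
    have h1 : AdjoinRoot.mk f f = 0 := AdjoinRoot.mk_self
    rw [hfdef] at h1
    rw [hfdef]
    rw [map_sub, map_pow, AdjoinRoot.mk_X, AdjoinRoot.mk_C, sub_eq_zero] at h1
    exact h1
  have hs' : ∀ j, s' j ^ pExp p j₀ j = g (T' j) := by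
    intro j
    by_cases hj : j = j₀
    · subst hj
      simp only [s', if_true, pExp_self]
      exact hroot
    · simp only [s', if_neg hj, pExp_ne p hj, pow_one]
      rfl
  let ψ : SGA1.kummerAlg B T' (pExp p j₀) →+* AdjoinRoot f := kummerLift T' (pExp p j₀) g s' hs'
  have hker : 𝔓.map (algebraMap B (SGA1.kummerAlg B T' (pExp p j₀))) ≤ RingHom.ker ψ := by
    rw [Ideal.map_le_iff_le_comap]
    intro b hb
    rw [Ideal.mem_comap, RingHom.mem_ker]
    show kummerLift T' (pExp p j₀) g s' hs' (algebraMap B _ b) = 0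
    rw [kummerLift_algebraMap]
    show AdjoinRoot.of f (Ideal.Quotient.mk 𝔓 b) = 0
    rw [Ideal.Quotient.eq_zero_iff_mem.mpr hb, map_zero]
  have h0 := hker h
  rw [RingHom.mem_ker, map_sub, map_mul] at h0
  have e1 : ψ (algebraMap B _ s) = AdjoinRoot.of f (Ideal.Quotient.mk 𝔓 s) :=
    kummerLift_algebraMap T' (pExp p j₀) g s' hs' s
  have e2 : ψ (algebraMap B _ c) = AdjoinRoot.of f (Ideal.Quotient.mk 𝔓 c) :=
    kummerLift_algebraMap T' (pExp p j₀) g s' hs' c
  have e3 : ψ (T T' (pExp p j₀) j₀) = AdjoinRoot.root f := by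
    have := kummerLift_T T' (pExp p j₀) g s' hs' j₀
    simp only [s', if_true] at this
    exact this
  rw [e1, e2, e3] at h0
  have h1 : AdjoinRoot.mk f (C (Ideal.Quotient.mk 𝔓 s) * X - C (Ideal.Quotient.mk 𝔓 c)) = 0 := by
    rw [map_sub, map_mul, AdjoinRoot.mk_C, AdjoinRoot.mk_C, AdjoinRoot.mk_X]
    exact h0
  rw [AdjoinRoot.mk_eq_zero] at h1
  have h2 : (C (Ideal.Quotient.mk 𝔓 s) * X - C (Ideal.Quotient.mk 𝔓 c) : (B ⧸ 𝔓)[X]) = 0 := by
    apply Polynomial.eq_zero_of_dvd_of_natDegree_lt h1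
    rw [hfdeg]
    have : (C (Ideal.Quotient.mk 𝔓 s) * X - C (Ideal.Quotient.mk 𝔓 c) : (B ⧸ 𝔓)[X]).natDegree ≤ 1 :=
      (natDegree_sub_le _ _).trans (max_le ((natDegree_C_mul_le _ _).trans natDegree_X_le) (by simp))
    omega
  have h3 := congrArg (fun q : (B ⧸ 𝔓)[X] => q.coeff 1) h2
  simp only [coeff_sub, coeff_C_mul, coeff_X_one, mul_one, coeff_C_succ, sub_zero, coeff_zero] at h3
  exact Ideal.Quotient.eq_zero_iff_mem.mp h3

end Indep

section Cases

variable (B : Type u) [CommRing B] [IsRegularLocalRing B] [IsDomain B] {r : ℕ} (T' : Fin r → B)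
  (hm : ∀ i, T' i ∈ maximalIdeal B)
  (hf : LinearIndependent (ResidueField B) (fun i => (maximalIdeal B).toCotangent ⟨T' i, hm i⟩))
  (p : ℕ) [hp : Fact p.Prime] (j₀ : Fin r)
  (N : Type u) [Field N] [Algebra B N] [FaithfulSMul B N]
  (S : N) (hS : S ^ p = algebraMap B N (T' j₀))

include hm hf hS in
/-- **Case (c)**: characteristic `p`. -/
theorem no_sep_pth_root_charP (hp0 : (p : B) = 0)
    (hsep : letI := FractionRing.liftAlgebra B N; Algebra.IsSeparable (FractionRing B) N) :
    False := by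
  classical
  letI algKN : Algebra (FractionRing B) N := FractionRing.liftAlgebra B N
  haveI : IsScalarTower B (FractionRing B) N := FractionRing.isScalarTower_liftAlgebra B N
  haveI : Algebra.IsSeparable (FractionRing B) N := hsep
  haveI : CharP (FractionRing B) p := charP_of_prime_cast_eq_zero _ p hp.out (by
    rw [← map_natCast (algebraMap B (FractionRing B)), hp0, map_zero])
  have hS' : S ^ p = algebraMap (FractionRing B) N (algebraMap B (FractionRing B) (T' j₀)) := by
    rw [hS, ← IsScalarTower.algebraMap_apply]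
  obtain ⟨y, hy⟩ := mem_range_of_isSeparable_of_pow_eq p S
    (Algebra.IsSeparable.isSeparable (FractionRing B) S) _ hS'
  have hy' : y ^ p = algebraMap B (FractionRing B) (T' j₀) := by
    apply (algebraMap (FractionRing B) N).injective
    rw [map_pow, hy, hS']
  haveI : IsIntegrallyClosed B := Groth.Agent.S9829.result B
  haveI := span_singleton_isPrime_of_linearIndependent T' hm hf j₀
  exact not_pow_eq_of_prime_span (FractionRing B) (T' j₀)
    (ne_zero_of_linearIndependent T' hm hf j₀) p hp.out.two_le y hy'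

include hm hf hS in
set_option maxHeartbeats 1000000 in
/-- **Case (b)**: the prime `(T'_{j₁})`, `j₁ ≠ j₀`, of residue characteristic `p`. -/
theorem no_tame_pth_root (j₁ : Fin r) (hj : j₀ ≠ j₁)
    (hp𝔓 : (p : B) ∈ Ideal.span ({T' j₁} : Set B)) [(Ideal.span ({T' j₁} : Set B)).IsPrime]
    (h : IsTamelyRamified (Localization.AtPrime (Ideal.span ({T' j₁} : Set B)))
      (locLift B N (Ideal.span ({T' j₁} : Set B)))) : False := by
  classical
  -- residue characteristic
  have hpA : (p : Localization.AtPrime (Ideal.span ({T' j₁} : Set B))) ∈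
      maximalIdeal (Localization.AtPrime (Ideal.span ({T' j₁} : Set B))) := by
    have h1 : algebraMap B (Localization.AtPrime (Ideal.span ({T' j₁} : Set B))) (p : B) ∈
        maximalIdeal (Localization.AtPrime (Ideal.span ({T' j₁} : Set B))) :=
      (IsLocalization.AtPrime.to_map_mem_maximal_iff _ (Ideal.span ({T' j₁} : Set B)) _).mpr hp𝔓
    rwa [map_natCast] at h1
  haveI : CharP (ResidueField (Localization.AtPrime (Ideal.span ({T' j₁} : Set B)))) p :=
    charP_of_prime_cast_eq_zero _ p hp.out (by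
      rw [← map_natCast (residue (Localization.AtPrime (Ideal.span ({T' j₁} : Set B)))),
        residue_eq_zero_iff]
      exact hpA)
  have hS' : S ^ p = locLift B N (Ideal.span ({T' j₁} : Set B))
      (algebraMap B (Localization.AtPrime (Ideal.span ({T' j₁} : Set B))) (T' j₀)) := by
    rw [locLift_algebraMap, hS]
  obtain ⟨c, hc⟩ := exists_pth_root_residue (Localization.AtPrime (Ideal.span ({T' j₁} : Set B)))
    (locLift B N (Ideal.span ({T' j₁} : Set B)))
    (fun V hV => by intro inst; exact (@h V hV inst).1) p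
    (algebraMap B (Localization.AtPrime (Ideal.span ({T' j₁} : Set B))) (T' j₀)) S hS'
  -- the quotient `D = B / (T'_{j₁})`
  have hx2 : T' j₁ ∉ maximalIdeal B ^ 2 := notMem_sq_of_linearIndependent T' hm hf j₁
  obtain ⟨hregD, -⟩ :=
    Groth.Agent.Lib.Helper85.isRegularLocalRing_quotient_span_singleton (T' j₁) (hm j₁) hx2
  haveI := hregD
  haveI : IsIntegrallyClosed (B ⧸ Ideal.span ({T' j₁} : Set B)) := Groth.Agent.S9829.result _
  have hnot := notMem_sq_sup_span T' hm hf j₀ j₁ hj
  have hx0 : (Ideal.Quotient.mk (Ideal.span ({T' j₁} : Set B)) (T' j₀)) ≠ 0 := by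
    rw [Ne, Ideal.Quotient.eq_zero_iff_mem]
    exact fun h => hnot (Ideal.mem_sup_right h)
  have hmaxD : (maximalIdeal B).map (Ideal.Quotient.mk (Ideal.span ({T' j₁} : Set B))) =
      maximalIdeal (B ⧸ Ideal.span ({T' j₁} : Set B)) :=
    Groth.Agent.Lib.Helper85.maximalIdeal_map_of_surjective _ Ideal.Quotient.mk_surjective
  have hxm : (Ideal.Quotient.mk (Ideal.span ({T' j₁} : Set B)) (T' j₀)) ∈
      maximalIdeal (B ⧸ Ideal.span ({T' j₁} : Set B)) := by
    rw [← hmaxD]
    exact Ideal.mem_map_of_mem _ (hm j₀)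
  have hxm2 : (Ideal.Quotient.mk (Ideal.span ({T' j₁} : Set B)) (T' j₀)) ∉
      maximalIdeal (B ⧸ Ideal.span ({T' j₁} : Set B)) ^ 2 := by
    rw [← hmaxD, ← Ideal.map_pow]
    intro hmem
    obtain ⟨z, hz, hzeq⟩ := (Ideal.mem_map_iff_of_surjective _ Ideal.Quotient.mk_surjective).mp hmem
    apply hnot
    have h1 : T' j₀ - z ∈ Ideal.span ({T' j₁} : Set B) := by
      rw [← Ideal.Quotient.eq_zero_iff_mem, map_sub, hzeq, sub_self]
    have : T' j₀ = z + (T' j₀ - z) := by ring
    rw [this]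
    exact Submodule.add_mem_sup hz h1
  haveI := span_singleton_isPrime_of_notMem_sq _ hxm hxm2
  -- the `p`-th root in the residue field
  have hy : (residue (Localization.AtPrime (Ideal.span ({T' j₁} : Set B))) c) ^ p =
      algebraMap (B ⧸ Ideal.span ({T' j₁} : Set B)) (Ideal.span ({T' j₁} : Set B)).ResidueField
        (Ideal.Quotient.mk _ (T' j₀)) := by
    rw [Ideal.algebraMap_quotient_residueField_mk,
      IsScalarTower.algebraMap_apply B (Localization.AtPrime (Ideal.span ({T' j₁} : Set B)))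
        (Ideal.span ({T' j₁} : Set B)).ResidueField,
      IsLocalRing.ResidueField.algebraMap_eq, ← map_pow, eq_comm, ← sub_eq_zero, ← map_sub,
      residue_eq_zero_iff]
    exact hc
  exact not_pow_eq_of_prime_span (Ideal.span ({T' j₁} : Set B)).ResidueField
    (Ideal.Quotient.mk (Ideal.span ({T' j₁} : Set B)) (T' j₀)) hx0 p hp.out.two_le _ hy

end Cases

end Groth.Agent.Lib.Helper9.AbhAbs
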