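import Mathlib
import Groth.Prelude.Def_EtRam
import Groth.Prelude.Def_SGA1
import Groth.Agent.Lib.Helper2.DenseOpenStrictHensel
import Groth.Agent.Lib.Helper9.AbhAbs.Good
import Groth.Agent.Lib.Helper9.AbhAbs.EtaleClosure

/-!
# Over a strictly henselian regular local ring, suitable Kummer extensions absorb tame
extensions (helper9)
-/

universe u

open IsLocalRing EtRam

namespace Groth.Agent.Lib.Helper9.AbhAbs

open Groth.Agent.Lib.Helper9.AbhyankarCore Groth.Agent.Lib.Helper9.KummerTame

section LemmaD

variable (A : Type u) [CommRing A] [IsDomain A] [HenselianLocalRing A]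
  [IsSepClosed (ResidueField A)]
  (M : Type u) [Field M] [Algebra A M] [FaithfulSMul A M]
  (hfin : letI := FractionRing.liftAlgebra A M; FiniteDimensional (FractionRing A) M)

include hfin in
/-- **Lemma D**: over a strictly henselian local domain, a field whose integral closure is finite
étale is the fraction field. -/
theorem trivial_of_etale [Module.Finite A (integralClosure A M)]
    [Algebra.Etale A (integralClosure A M)] :
    ∀ x : M, ∃ a b : A, b ≠ 0 ∧ x * algebraMap A M b = algebraMap A M a := by
  classical
  letI algKM : Algebra (FractionRing A) M := FractionRing.liftAlgebra A M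
  haveI : IsScalarTower A (FractionRing A) M := FractionRing.isScalarTower_liftAlgebra A M
  haveI : FiniteDimensional (FractionRing A) M := hfin
  haveI : IsFractionRing (integralClosure A M) M :=
    integralClosure.isFractionRing_of_finite_extension (FractionRing A) M
  haveI : Algebra.IsIntegral A (integralClosure A M) := Algebra.IsIntegral.of_finite A _
  obtain ⟨𝔮, h𝔮⟩ := Ideal.exists_maximal (integralClosure A M)
  haveI := h𝔮
  have hcomap : 𝔮.comap (algebraMap A (integralClosure A M)) = maximalIdeal A :=
    IsLocalRing.eq_maximalIdeal (Ideal.isMaximal_comap_of_isIntegral_of_isMaximal 𝔮)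
  obtain ⟨φ, -⟩ := Groth.Agent.Lib.Helper2.exists_algHom_comap_maximalIdeal_eq A
    (integralClosure A M) 𝔮 hcomap
  have hker : RingHom.ker φ.toRingHom = ⊥ := by
    haveI : (RingHom.ker φ.toRingHom).IsPrime := RingHom.ker_isPrime _
    apply Ideal.eq_bot_of_comap_eq_bot (R := A)
    rw [eq_bot_iff]
    intro a ha
    rw [Ideal.mem_comap, RingHom.mem_ker] at ha
    have h1 : φ.toRingHom (algebraMap A (integralClosure A M) a) = a := φ.commutes a
    rw [Ideal.mem_bot, ← h1, ha]
  have hφinj : Function.Injective φ := (RingHom.injective_iff_ker_eq_bot φ.toRingHom).mpr hker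
  have hB : ∀ b : integralClosure A M, b = algebraMap A (integralClosure A M) (φ b) := by
    intro b
    apply hφinj
    rw [φ.commutes]
    rfl
  intro x
  obtain ⟨b₁, b₂, hb₂, hx⟩ := IsFractionRing.div_surjective (A := integralClosure A M) x
  refine ⟨φ b₁, φ b₂, ?_, ?_⟩
  · intro h0
    have : b₂ = 0 := by rw [hB b₂, h0, map_zero]
    exact nonZeroDivisors.ne_zero hb₂ this
  · have h1 : algebraMap (integralClosure A M) M b₁ = algebraMap A M (φ b₁) := by
      conv_lhs => rw [hB b₁]
      rw [← IsScalarTower.algebraMap_apply]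
    have h2 : algebraMap (integralClosure A M) M b₂ = algebraMap A M (φ b₂) := by
      conv_lhs => rw [hB b₂]
      rw [← IsScalarTower.algebraMap_apply]
    have h3 : algebraMap (integralClosure A M) M b₂ ≠ 0 := by
      rw [Ne, IsFractionRing.to_map_eq_zero_iff]
      exact nonZeroDivisors.ne_zero hb₂
    rw [← hx, ← h1, ← h2, div_mul_cancel₀ _ h3]

end LemmaD

/-- every compositum of `L` with the Kummer extension of exponents `n` is the fraction field of
the Kummer algebra. -/
def Triv (R : Type u) [CommRing R] {r : ℕ} (t : Fin r → R) (n : Fin r → ℕ) (L : Type u) [Field L]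
    [Algebra R L] : Prop :=
  ∀ (N : Type u) [Field N] [Algebra (SGA1.kummerAlg R t n) N]
    [FaithfulSMul (SGA1.kummerAlg R t n) N] (i : L →+* N),
    (∀ a : R, i (algebraMap R L a) =
      algebraMap (SGA1.kummerAlg R t n) N (algebraMap R (SGA1.kummerAlg R t n) a)) →
    (∀ E : Subfield N, Set.range i ⊆ E →
      Set.range (algebraMap (SGA1.kummerAlg R t n) N) ⊆ E → E = ⊤) →
    ∀ x : N, ∃ a b : SGA1.kummerAlg R t n, b ≠ 0 ∧
      x * algebraMap (SGA1.kummerAlg R t n) N b = algebraMap (SGA1.kummerAlg R t n) N a

section TheoremII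

variable (R : Type u) [CommRing R] [IsRegularLocalRing R] [IsDomain R] [HenselianLocalRing R]
  [IsSepClosed (ResidueField R)] {r : ℕ} (t : Fin r → R)
  (hm : ∀ i, t i ∈ maximalIdeal R)
  (hf : LinearIndependent (ResidueField R) (fun i => (maximalIdeal R).toCotangent ⟨t i, hm i⟩))
  (n : Fin r → ℕ) (hn : ∀ i, 1 ≤ n i)
  (L : Type u) [Field L] [Algebra R L] [FaithfulSMul R L]

include hm hf hn in
/-- **Theorem II**: exponents divisible by all ramification indices trivialize. -/
theorem triv_of_dvd (hG : Good R t L)
    (hdiv : ∀ (j : Fin r) [(Ideal.span ({t j} : Set R)).IsPrime] (V : ValuationSubring L)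
      (hdom : Dominates (Localization.AtPrime (Ideal.span ({t j} : Set R)))
        (locLift R L (Ideal.span ({t j} : Set R))) V),
      eV (locLift R L (Ideal.span ({t j} : Set R))) V hdom ∣ n j) :
    Triv R t n L := by
  intro N _ _ _ i hcompat hgen
  haveI hreg : IsRegularLocalRing (SGA1.kummerAlg R t n) := isRegularLocalRing_kummer R t hm hf n hn
  haveI : IsDomain (SGA1.kummerAlg R t n) :=
    Groth.Agent.Lib.Helper85.isDomain_of_isRegularLocalRing _
  haveI : HenselianLocalRing (SGA1.kummerAlg R t n) := henselianLocalRing_kummer R t n hn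
  haveI : IsSepClosed (ResidueField (SGA1.kummerAlg R t n)) :=
    isSepClosed_residueField_kummer R t hm n hn
  have hG' := Good.kummer R t hm hf n hn L N i hcompat hgen hG
  obtain ⟨h1, h2⟩ := etale_integralClosure_of_unram (SGA1.kummerAlg R t n) N hG'.fin hG'.sep
    (fun 𝔓 _ h𝔓 => Good.unram_kummer R t hm hf n hn L N i hcompat hgen hG hdiv 𝔓 h𝔓)
  haveI := h1
  haveI := h2
  exact trivial_of_etale (SGA1.kummerAlg R t n) N hG'.fin

end TheoremII

end Groth.Agent.Lib.Helper9.AbhAbs
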