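import Mathlib
import Groth.Prelude.Def_EtRam
import Groth.Prelude.Def_SGA1
import Groth.Agent.Lib.Helper9.AbhAbs.Good
import Groth.Agent.Lib.Helper9.AbhAbs.KummerLift
import Groth.Agent.Lib.Helper9.AbhAbs.PPartY
import Groth.Agent.Lib.Helper9.AbhAbs.Trivial

/-!
# Removing the residue characteristic from the exponents (helper9)
-/

universe u

open IsLocalRing EtRam Polynomial

namespace Groth.Agent.Lib.Helper9.AbhAbs

open Groth.Agent.Lib.Helper9.KummerTame

section LemmaY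

variable (B : Type u) [CommRing B] [IsRegularLocalRing B] [IsDomain B] {r : ℕ} (T' : Fin r → B)
  (hm : ∀ i, T' i ∈ maximalIdeal B)
  (hf : LinearIndependent (ResidueField B) (fun i => (maximalIdeal B).toCotangent ⟨T' i, hm i⟩))
  (p : ℕ) [hp : Fact p.Prime] (hpm : (p : B) ∈ maximalIdeal B) (j₀ : Fin r)
  (hpj : (p : B) ∉ Ideal.span ({T' j₀} : Set B))
  (N : Type u) [Field N] [Algebra B N] [FaithfulSMul B N]
  [Algebra (SGA1.kummerAlg B T' (pExp p j₀)) N]
  [FaithfulSMul (SGA1.kummerAlg B T' (pExp p j₀)) N]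

include hm hf hpm hpj in
set_option maxHeartbeats 1000000 in
/-- **Lemma Y**: the fraction field of `B[T]/(T^p - T'_{j₀})` is not good over `B`. -/
theorem lemmaY
    (htower : ∀ b : B, algebraMap (SGA1.kummerAlg B T' (pExp p j₀)) N
      (algebraMap B (SGA1.kummerAlg B T' (pExp p j₀)) b) = algebraMap B N b)
    (hfrac : ∀ x : N, ∃ a b : SGA1.kummerAlg B T' (pExp p j₀), b ≠ 0 ∧
      x * algebraMap (SGA1.kummerAlg B T' (pExp p j₀)) N b =
        algebraMap (SGA1.kummerAlg B T' (pExp p j₀)) N a)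
    (hG : Good B T' N) : False := by
  classical
  haveI tow : @IsScalarTower B (SGA1.kummerAlg B T' (pExp p j₀)) N Algebra.toSMul Algebra.toSMul
      Algebra.toSMul := IsScalarTower.of_algebraMap_eq (fun b => (htower b).symm)
  have he : ∀ j, 1 ≤ pExp p j₀ j := one_le_pExp p hp.out.one_le j₀
  haveI hreg₁ : IsRegularLocalRing (SGA1.kummerAlg B T' (pExp p j₀)) :=
    isRegularLocalRing_kummer B T' hm hf (pExp p j₀) he
  haveI : IsDomain (SGA1.kummerAlg B T' (pExp p j₀)) :=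
    Groth.Agent.Lib.Helper85.isDomain_of_isRegularLocalRing _
  haveI : IsIntegrallyClosed (SGA1.kummerAlg B T' (pExp p j₀)) := Groth.Agent.S9829.result _
  haveI : IsFractionRing (SGA1.kummerAlg B T' (pExp p j₀)) N := by
    apply IsFractionRing.of_field
    intro z
    obtain ⟨a, b, hb, hz⟩ := hfrac z
    refine ⟨a, b, ?_⟩
    rw [eq_div_iff]
    · exact hz
    · rw [Ne, map_eq_zero_iff _ (FaithfulSMul.algebraMap_injective _ N)]
      exact hb
  have hS₁ : T T' (pExp p j₀) j₀ ^ p =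
      algebraMap B (SGA1.kummerAlg B T' (pExp p j₀)) (T' j₀) := by
    have := T_pow T' (pExp p j₀) j₀
    rwa [pExp_self] at this
  have hS : (algebraMap (SGA1.kummerAlg B T' (pExp p j₀)) N (T T' (pExp p j₀) j₀)) ^ p =
      algebraMap B N (T' j₀) := by
    rw [← map_pow, hS₁, ← IsScalarTower.algebraMap_apply]
  by_cases hp0 : (p : B) = 0
  · exact no_sep_pth_root_charP B T' hm hf p j₀ N _ hS hp0 hG.sep
  · have hle : Ideal.span ({(p : B)} : Set B) ≤ maximalIdeal B := by
      rw [Ideal.span_le]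
      intro y hy
      rw [Set.mem_singleton_iff] at hy
      rw [hy]
      exact hpm
    obtain ⟨𝔓, h𝔓min, -⟩ := Ideal.exists_minimalPrimes_le hle
    haveI h𝔓prime : 𝔓.IsPrime := h𝔓min.1.1
    have hp𝔓 : (p : B) ∈ 𝔓 := h𝔓min.1.2 (Ideal.mem_span_singleton_self _)
    have h𝔓0 : 𝔓 ≠ ⊥ := by
      rintro rfl
      exact hp0 (by simpa using hp𝔓)
    have h𝔓ht : 𝔓.height = 1 := by
      apply le_antisymm
      · haveI : (Ideal.span ({(p : B)} : Set B)).IsPrincipal := ⟨⟨_, rfl⟩⟩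
        exact Ideal.height_le_one_of_isPrincipal_of_mem_minimalPrimes _ 𝔓 h𝔓min
      · exact one_le_height_of_ne_bot 𝔓 h𝔓0
    haveI := isDVR_of_height_eq_one B 𝔓 h𝔓ht
    by_cases hprod : (∏ i, T' i) ∈ 𝔓
    · rw [Ideal.IsPrime.prod_mem_iff] at hprod
      obtain ⟨j₁, -, hj₁⟩ := hprod
      haveI := span_singleton_isPrime_of_linearIndependent T' hm hf j₁
      have heq : Ideal.span ({T' j₁} : Set B) = 𝔓 :=
        eq_span_of_mem 𝔓 h𝔓ht _ (ne_zero_of_linearIndependent T' hm hf j₁) hj₁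
      have hj : j₀ ≠ j₁ := by
        rintro rfl
        apply hpj
        rw [heq]
        exact hp𝔓
      exact no_tame_pth_root B T' hm hf p j₀ N _ hS j₁ hj (by rw [heq]; exact hp𝔓) (hG.tame j₁)
    · exact no_unramified_pth_root B 𝔓 p hp𝔓 (T' j₀) (SGA1.kummerAlg B T' (pExp p j₀))
        (T T' (pExp p j₀) j₀) hS₁
        (fun s c h => kummer_indep B T' p hp.out.two_le j₀ 𝔓 s c (by
          rwa [Algebra.smul_def] at h))
        N hG.fin hG.sep (hG.unram 𝔓 h𝔓ht hprod)

end LemmaY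

end Groth.Agent.Lib.Helper9.AbhAbs
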