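import Mathlib
import Groth.Prelude.Def_EtRam
import Groth.Prelude.Def_SGA1
import Groth.Agent.Lib.Helper9.AbhAbs.PPart

/-!
# Lemma E: dividing an exponent by the residue characteristic (helper9)
-/

universe u

open IsLocalRing EtRam Polynomial

namespace Groth.Agent.Lib.Helper9.AbhAbs

open Groth.Agent.Lib.Helper9.KummerTame

/-- multiply the exponent at `j₀` by `p`. -/
def updExp {r : ℕ} (n' : Fin r → ℕ) (p : ℕ) (j₀ : Fin r) : Fin r → ℕ :=
  fun j => if j = j₀ then p * n' j else n' j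

theorem updExp_self {r : ℕ} (n' : Fin r → ℕ) (p : ℕ) (j₀ : Fin r) :
    updExp n' p j₀ j₀ = p * n' j₀ := by simp [updExp]

theorem updExp_ne {r : ℕ} (n' : Fin r → ℕ) (p : ℕ) {j₀ j : Fin r} (h : j ≠ j₀) :
    updExp n' p j₀ j = n' j := by simp [updExp, h]

theorem one_le_updExp {r : ℕ} (n' : Fin r → ℕ) (hn' : ∀ i, 1 ≤ n' i) (p : ℕ) (hp : 1 ≤ p)
    (j₀ j : Fin r) : 1 ≤ updExp n' p j₀ j := by
  unfold updExp
  split_ifs
  · exact Nat.mul_pos hp (hn' j)
  · exact hn' j

section Construct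

variable (R : Type u) [CommRing R] [IsRegularLocalRing R] [IsDomain R] {r : ℕ} (t : Fin r → R)
  (hm : ∀ i, t i ∈ maximalIdeal R)
  (hf : LinearIndependent (ResidueField R) (fun i => (maximalIdeal R).toCotangent ⟨t i, hm i⟩))
  (n' : Fin r → ℕ) (hn' : ∀ i, 1 ≤ n' i) (p : ℕ) (hp1 : 1 ≤ p) (j₀ : Fin r)
  (L : Type u) [Field L] [Algebra R L]
  (hT : Triv R t (updExp n' p j₀) L)
  (N₁ : Type u) [Field N₁] [Algebra (SGA1.kummerAlg R t n') N₁]
  [FaithfulSMul (SGA1.kummerAlg R t n') N₁]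
  (i₁ : L →+* N₁)
  (hcompat₁ : ∀ a : R, i₁ (algebraMap R L a) =
    algebraMap (SGA1.kummerAlg R t n') N₁ (algebraMap R (SGA1.kummerAlg R t n') a))
  (S : N₁) (hS : S ^ p = algebraMap (SGA1.kummerAlg R t n') N₁ (T t n' j₀))
  (hgen₁ : ∀ E : Subfield N₁, Set.range i₁ ⊆ E →
    Set.range (algebraMap (SGA1.kummerAlg R t n') N₁) ⊆ E → S ∈ E → E = ⊤)

include hm hf hn' hp1 hT hcompat₁ hS hgen₁ in
set_option maxHeartbeats 1000000 in
theorem E_construct :
    ∃ j' : SGA1.kummerAlg R t (updExp n' p j₀) →+* N₁,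
      (∀ a : R, j' (algebraMap R _ a) =
        algebraMap (SGA1.kummerAlg R t n') N₁ (algebraMap R (SGA1.kummerAlg R t n') a)) ∧
      j' (T t (updExp n' p j₀) j₀) = S ∧
      (∀ j, j ≠ j₀ → j' (T t (updExp n' p j₀) j) =
        algebraMap (SGA1.kummerAlg R t n') N₁ (T t n' j)) ∧
      ∀ x : N₁, ∃ a b : SGA1.kummerAlg R t (updExp n' p j₀), j' b ≠ 0 ∧ x * j' b = j' a := by
  classical
  have hn : ∀ j, 1 ≤ updExp n' p j₀ j := one_le_updExp n' hn' p hp1 j₀
  haveI hregRn : IsRegularLocalRing (SGA1.kummerAlg R t (updExp n' p j₀)) :=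
    isRegularLocalRing_kummer R t hm hf _ hn
  haveI : IsDomain (SGA1.kummerAlg R t (updExp n' p j₀)) :=
    Groth.Agent.Lib.Helper85.isDomain_of_isRegularLocalRing _
  haveI := isIntegral_kummer R t (updExp n' p j₀) hn
  obtain ⟨g, hg⟩ : ∃ g : R →+* N₁, g = (algebraMap (SGA1.kummerAlg R t n') N₁).comp
      (algebraMap R (SGA1.kummerAlg R t n')) := ⟨_, rfl⟩
  have hginj : Function.Injective g := by
    rw [hg]
    exact (FaithfulSMul.algebraMap_injective _ N₁).comp (algebraMap_kummer_injective R t n' hn')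
  obtain ⟨s', hs'def⟩ : ∃ s' : Fin r → N₁, s' = fun j =>
      if j = j₀ then S else algebraMap (SGA1.kummerAlg R t n') N₁ (T t n' j) := ⟨_, rfl⟩
  have hs'0 : s' j₀ = S := by rw [hs'def]; simp
  have hs'1 : ∀ j, j ≠ j₀ → s' j = algebraMap (SGA1.kummerAlg R t n') N₁ (T t n' j) := by
    intro j hj
    rw [hs'def]
    simp [hj]
  have hs' : ∀ j, s' j ^ updExp n' p j₀ j = g (t j) := by
    intro j
    by_cases hj : j = j₀
    · subst hj
      rw [hs'0, updExp_self, pow_mul, hS, ← map_pow, T_pow, hg]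
      rfl
    · rw [hs'1 j hj, updExp_ne n' p hj, ← map_pow, T_pow, hg]
      rfl
  obtain ⟨j', hj'def⟩ : ∃ j' : SGA1.kummerAlg R t (updExp n' p j₀) →+* N₁,
      j' = kummerLift t (updExp n' p j₀) g s' hs' := ⟨_, rfl⟩
  have hj'R : ∀ a : R, j' (algebraMap R _ a) = g a := by
    intro a
    rw [hj'def, kummerLift_algebraMap]
  have hj'T : ∀ j, j' (T t (updExp n' p j₀) j) = s' j := by
    intro j
    rw [hj'def, kummerLift_T]
  have hj'inj : Function.Injective j' := by
    rw [RingHom.injective_iff_ker_eq_bot]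
    haveI : (RingHom.ker j').IsPrime := RingHom.ker_isPrime _
    apply Ideal.eq_bot_of_comap_eq_bot (R := R)
    rw [eq_bot_iff]
    intro a ha
    rw [Ideal.mem_comap, RingHom.mem_ker, hj'R] at ha
    rw [Ideal.mem_bot]
    exact hginj (by rw [ha, map_zero])
  letI algRn : Algebra (SGA1.kummerAlg R t (updExp n' p j₀)) N₁ := j'.toAlgebra
  haveI : FaithfulSMul (SGA1.kummerAlg R t (updExp n' p j₀)) N₁ :=
    (faithfulSMul_iff_algebraMap_injective _ _).mpr hj'inj
  have hc : ∀ a : R, i₁ (algebraMap R L a) =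
      algebraMap (SGA1.kummerAlg R t (updExp n' p j₀)) N₁ (algebraMap R _ a) := by
    intro a
    rw [hcompat₁]
    show _ = j' (algebraMap R _ a)
    rw [hj'R, hg]
    rfl
  have hge : ∀ E : Subfield N₁, Set.range i₁ ⊆ E →
      Set.range (algebraMap (SGA1.kummerAlg R t (updExp n' p j₀)) N₁) ⊆ E → E = ⊤ := by
    intro E h1 h2
    have hj'E : ∀ x, j' x ∈ E := fun x => h2 ⟨x, rfl⟩
    have hSE : S ∈ E := by
      rw [← hs'0, ← hj'T]
      exact hj'E _
    apply hgen₁ E h1 _ hSE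
    rintro _ ⟨b, rfl⟩
    induction b using kummer_induction with
    | hC a =>
      have : algebraMap (SGA1.kummerAlg R t n') N₁ (algebraMap R _ a) = j' (algebraMap R _ a) := by
        rw [hj'R, hg]
        rfl
      rw [this]
      exact hj'E _
    | hadd x y hx hy =>
      rw [map_add]
      exact add_mem hx hy
    | hmul x j hx =>
      rw [map_mul]
      apply mul_mem hx
      by_cases hj : j = j₀
      · subst hj
        rw [← hS]
        exact pow_mem hSE p
      · rw [← hs'1 j hj, ← hj'T]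
        exact hj'E _
  refine ⟨j', ?_, ?_, ?_, ?_⟩
  · intro a
    rw [hj'R, hg]
    rfl
  · rw [hj'T, hs'0]
  · intro j hj
    rw [hj'T, hs'1 j hj]
  · intro x
    obtain ⟨a, b, hb, hx⟩ := hT N₁ i₁ hc hge x
    exact ⟨a, b, fun h0 => hb (hj'inj (by rw [h0, map_zero])), hx⟩

end Construct

end Groth.Agent.Lib.Helper9.AbhAbs
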