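import Mathlib
import Groth.Prelude.Def_EtRam
import Groth.Prelude.Def_SGA1
import Groth.Agent.Lib.Helper9.AbhAbs.PPartE

/-!
# Lemma E (continued) (helper9)
-/

universe u

open IsLocalRing EtRam Polynomial

namespace Groth.Agent.Lib.Helper9.AbhAbs

open Groth.Agent.Lib.Helper9.KummerTame

section Case1

variable (R : Type u) [CommRing R] [IsRegularLocalRing R] [IsDomain R] {r : ℕ} (t : Fin r → R)
  (hm : ∀ i, t i ∈ maximalIdeal R)
  (hf : LinearIndependent (ResidueField R) (fun i => (maximalIdeal R).toCotangent ⟨t i, hm i⟩))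
  (n' : Fin r → ℕ) (hn' : ∀ i, 1 ≤ n' i) (p : ℕ) [hp : Fact p.Prime]
  (hpm : (p : R) ∈ maximalIdeal R) (j₀ : Fin r)
  (hpj : (p : R) ∉ Ideal.span ({t j₀} : Set R))
  (L : Type u) [Field L] [Algebra R L] [FaithfulSMul R L]
  (hT : Triv R t (updExp n' p j₀) L)
  (N : Type u) [Field N] [Algebra (SGA1.kummerAlg R t n') N]
  [FaithfulSMul (SGA1.kummerAlg R t n') N]
  (i : L →+* N)
  (hcompat : ∀ a : R, i (algebraMap R L a) =
    algebraMap (SGA1.kummerAlg R t n') N (algebraMap R (SGA1.kummerAlg R t n') a))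
  (hgen : ∀ E : Subfield N, Set.range i ⊆ E →
    Set.range (algebraMap (SGA1.kummerAlg R t n') N) ⊆ E → E = ⊤)

include hm hf hn' hpm hpj hT hcompat hgen in
set_option maxHeartbeats 2000000 in
/-- **Case 1**: `T'_{j₀}` has no `p`-th root in a compositum of `L` with the Kummer extension of
exponents `n'`. -/
theorem lemmaE_case1 (hG : Good R t L) (S : N)
    (hS : S ^ p = algebraMap (SGA1.kummerAlg R t n') N (T t n' j₀)) : False := by
  classical
  haveI hregB : IsRegularLocalRing (SGA1.kummerAlg R t n') :=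
    isRegularLocalRing_kummer R t hm hf n' hn'
  haveI : IsDomain (SGA1.kummerAlg R t n') :=
    Groth.Agent.Lib.Helper85.isDomain_of_isRegularLocalRing _
  have hG' : Good (SGA1.kummerAlg R t n') (T t n') N :=
    Good.kummer R t hm hf n' hn' L N i hcompat hgen hG
  have hmB := T_mem_maximalIdeal R t hm n' hn'
  have hfB := linearIndependent_T R t hm hf n' hn'
  obtain ⟨j', hj'R, hj'T, hj'T', hfrac'⟩ := E_construct R t hm hf n' hn' p hp.out.one_le j₀ L hT
    N i hcompat S hS (fun E h1 h2 _ => hgen E h1 h2)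
  have he : ∀ j, 1 ≤ pExp p j₀ j := one_le_pExp p hp.out.one_le j₀
  haveI hreg₁ : IsRegularLocalRing (SGA1.kummerAlg (SGA1.kummerAlg R t n') (T t n') (pExp p j₀)) :=
    isRegularLocalRing_kummer _ (T t n') hmB hfB (pExp p j₀) he
  haveI : IsDomain (SGA1.kummerAlg (SGA1.kummerAlg R t n') (T t n') (pExp p j₀)) :=
    Groth.Agent.Lib.Helper85.isDomain_of_isRegularLocalRing _
  haveI := isIntegral_kummer (SGA1.kummerAlg R t n') (T t n') (pExp p j₀) he
  -- the map `B₁ → N`
  obtain ⟨s₁, hs₁def⟩ : ∃ s₁ : Fin r → N, s₁ = fun j =>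
      if j = j₀ then S else algebraMap (SGA1.kummerAlg R t n') N (T t n' j) := ⟨_, rfl⟩
  have hs₁0 : s₁ j₀ = S := by rw [hs₁def]; simp
  have hs₁1 : ∀ j, j ≠ j₀ → s₁ j = algebraMap (SGA1.kummerAlg R t n') N (T t n' j) := by
    intro j hj
    rw [hs₁def]
    simp [hj]
  have hs₁ : ∀ j, s₁ j ^ pExp p j₀ j = algebraMap (SGA1.kummerAlg R t n') N (T t n' j) := by
    intro j
    by_cases hj : j = j₀
    · subst hj
      rw [hs₁0, pExp_self, hS]
    · rw [hs₁1 j hj, pExp_ne p hj, pow_one]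
  obtain ⟨j₁, hj₁def⟩ : ∃ j₁ : SGA1.kummerAlg (SGA1.kummerAlg R t n') (T t n') (pExp p j₀) →+* N,
      j₁ = kummerLift (T t n') (pExp p j₀) (algebraMap (SGA1.kummerAlg R t n') N) s₁ hs₁ :=
    ⟨_, rfl⟩
  have hj₁B : ∀ b, j₁ (algebraMap (SGA1.kummerAlg R t n') _ b) =
      algebraMap (SGA1.kummerAlg R t n') N b := by
    intro b
    rw [hj₁def, kummerLift_algebraMap]
  have hj₁T : ∀ j, j₁ (T (T t n') (pExp p j₀) j) = s₁ j := by
    intro j
    rw [hj₁def, kummerLift_T]
  have hj₁inj : Function.Injective j₁ := by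
    rw [RingHom.injective_iff_ker_eq_bot]
    haveI : (RingHom.ker j₁).IsPrime := RingHom.ker_isPrime _
    apply Ideal.eq_bot_of_comap_eq_bot (R := SGA1.kummerAlg R t n')
    rw [eq_bot_iff]
    intro a ha
    rw [Ideal.mem_comap, RingHom.mem_ker, hj₁B] at ha
    rw [Ideal.mem_bot]
    exact FaithfulSMul.algebraMap_injective _ N (by rw [ha, map_zero])
  -- the map `R_n → B₁`
  obtain ⟨u, hudef⟩ : ∃ u : Fin r → SGA1.kummerAlg (SGA1.kummerAlg R t n') (T t n') (pExp p j₀),
      u = fun j => if j = j₀ then T (T t n') (pExp p j₀) j₀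
        else algebraMap (SGA1.kummerAlg R t n') _ (T t n' j) := ⟨_, rfl⟩
  have hu0 : u j₀ = T (T t n') (pExp p j₀) j₀ := by rw [hudef]; simp
  have hu1 : ∀ j, j ≠ j₀ → u j = algebraMap (SGA1.kummerAlg R t n') _ (T t n' j) := by
    intro j hj
    rw [hudef]
    simp [hj]
  have hu : ∀ j, u j ^ updExp n' p j₀ j =
      ((algebraMap (SGA1.kummerAlg R t n')
        (SGA1.kummerAlg (SGA1.kummerAlg R t n') (T t n') (pExp p j₀))).comp
        (algebraMap R (SGA1.kummerAlg R t n'))) (t j) := by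
    intro j
    by_cases hj : j = j₀
    · subst hj
      have h1 := T_pow (T t n') (pExp p j) j
      rw [pExp_self] at h1
      rw [hu0, updExp_self, pow_mul, h1, ← map_pow, T_pow]
      rfl
    · rw [hu1 j hj, updExp_ne n' p hj, ← map_pow, T_pow]
      rfl
  obtain ⟨θ, hθdef⟩ : ∃ θ : SGA1.kummerAlg R t (updExp n' p j₀) →+*
      SGA1.kummerAlg (SGA1.kummerAlg R t n') (T t n') (pExp p j₀),
      θ = kummerLift t (updExp n' p j₀) _ u hu := ⟨_, rfl⟩
  have hθ : j₁.comp θ = j' := by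
    apply kummer_ringHom_ext
    · intro a
      rw [RingHom.comp_apply, hθdef, kummerLift_algebraMap, RingHom.comp_apply, hj₁B, hj'R]
    · intro j
      rw [RingHom.comp_apply, hθdef, kummerLift_T]
      by_cases hj : j = j₀
      · subst hj
        rw [hu0, hj₁T, hs₁0, hj'T]
      · rw [hu1 j hj, hj₁B, hj'T' j hj]
  letI algB₁N : Algebra (SGA1.kummerAlg (SGA1.kummerAlg R t n') (T t n') (pExp p j₀)) N :=
    j₁.toAlgebra
  haveI : FaithfulSMul (SGA1.kummerAlg (SGA1.kummerAlg R t n') (T t n') (pExp p j₀)) N :=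
    (faithfulSMul_iff_algebraMap_injective _ _).mpr hj₁inj
  have hfrac : ∀ x : N, ∃ a b : SGA1.kummerAlg (SGA1.kummerAlg R t n') (T t n') (pExp p j₀),
      b ≠ 0 ∧ x * algebraMap _ N b = algebraMap _ N a := by
    intro x
    obtain ⟨a, b, hb, hx⟩ := hfrac' x
    refine ⟨θ a, θ b, ?_, ?_⟩
    · intro h0
      apply hb
      rw [← hθ, RingHom.comp_apply, h0, map_zero]
    · show x * j₁ (θ b) = j₁ (θ a)
      rw [← RingHom.comp_apply, ← RingHom.comp_apply, hθ]
      exact hx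
  -- the prime `p` in `B`
  have hpmB : ((p : ℕ) : SGA1.kummerAlg R t n') ∈ maximalIdeal (SGA1.kummerAlg R t n') := by
    rw [maximalIdeal_kummer R t hm n' hn', ← map_natCast (algebraMap R (SGA1.kummerAlg R t n'))]
    exact Ideal.mem_sup_right (Ideal.mem_map_of_mem _ hpm)
  have hpjB : ((p : ℕ) : SGA1.kummerAlg R t n') ∉
      Ideal.span ({T t n' j₀} : Set (SGA1.kummerAlg R t n')) := by
    intro h
    haveI := span_singleton_isPrime_of_linearIndependent t hm hf j₀
    haveI := isPrime_span_T R t hm hf n' hn' j₀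
    have hlo := liesOver_span_T R t hm hf n' hn' j₀
    apply hpj
    rw [hlo.over, Ideal.under_def, Ideal.mem_comap, map_natCast]
    exact h
  exact lemmaY (SGA1.kummerAlg R t n') (T t n') hmB hfB p hpmB j₀ hpjB N hj₁B hfrac hG'

end Case1

end Groth.Agent.Lib.Helper9.AbhAbs
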