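import Mathlib
import Groth.Prelude.Def_EtRam
import Groth.Prelude.Def_SGA1
import Groth.Agent.Lib.Helper9.AbhAbs.PPartE2

/-!
# Lemma E (end) (helper9)
-/

universe u

open IsLocalRing EtRam Polynomial IntermediateField

namespace Groth.Agent.Lib.Helper9.AbhAbs

open Groth.Agent.Lib.Helper9.KummerTame

section Case2

variable (R : Type u) [CommRing R] [IsRegularLocalRing R] [IsDomain R] {r : ℕ} (t : Fin r → R)
  (hm : ∀ i, t i ∈ maximalIdeal R)
  (hf : LinearIndependent (ResidueField R) (fun i => (maximalIdeal R).toCotangent ⟨t i, hm i⟩))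
  (n' : Fin r → ℕ) (hn' : ∀ i, 1 ≤ n' i) (p : ℕ) [hp : Fact p.Prime] (j₀ : Fin r)
  (L : Type u) [Field L] [Algebra R L] [FaithfulSMul R L]
  (hT : Triv R t (updExp n' p j₀) L)
  (N : Type u) [Field N] [Algebra (SGA1.kummerAlg R t n') N]
  [FaithfulSMul (SGA1.kummerAlg R t n') N]
  (i : L →+* N)
  (hcompat : ∀ a : R, i (algebraMap R L a) =
    algebraMap (SGA1.kummerAlg R t n') N (algebraMap R (SGA1.kummerAlg R t n') a))
  (hgen : ∀ E : Subfield N, Set.range i ⊆ E →
    Set.range (algebraMap (SGA1.kummerAlg R t n') N) ⊆ E → E = ⊤)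

include hm hf hn' hT hcompat hgen in
set_option maxHeartbeats 2000000 in
/-- **Case 2**: if `T'_{j₀}` has no `p`-th root in the compositum `N`, then `N` is trivial. -/
theorem lemmaE_case2 (hG : Good R t L)
    (hroot : ∀ S : N, S ^ p ≠ algebraMap (SGA1.kummerAlg R t n') N (T t n' j₀)) :
    ∀ x : N, ∃ a b : SGA1.kummerAlg R t n', b ≠ 0 ∧
      x * algebraMap (SGA1.kummerAlg R t n') N b = algebraMap (SGA1.kummerAlg R t n') N a := by
  classical
  haveI hregB : IsRegularLocalRing (SGA1.kummerAlg R t n') :=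
    isRegularLocalRing_kummer R t hm hf n' hn'
  haveI : IsDomain (SGA1.kummerAlg R t n') :=
    Groth.Agent.Lib.Helper85.isDomain_of_isRegularLocalRing _
  have hG' : Good (SGA1.kummerAlg R t n') (T t n') N :=
    Good.kummer R t hm hf n' hn' L N i hcompat hgen hG
  obtain ⟨τ, hτ⟩ : ∃ τ : N, τ = algebraMap (SGA1.kummerAlg R t n') N (T t n' j₀) := ⟨_, rfl⟩
  have hirr : Irreducible (X ^ p - C τ : N[X]) :=
    X_pow_sub_C_irreducible_of_prime hp.out (fun b => by rw [hτ]; exact hroot b)
  haveI : Fact (Irreducible (X ^ p - C τ : N[X])) := ⟨hirr⟩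
  have hf0 : (X ^ p - C τ : N[X]) ≠ 0 := hirr.ne_zero
  haveI : FaithfulSMul (SGA1.kummerAlg R t n') (AdjoinRoot (X ^ p - C τ : N[X])) :=
    (faithfulSMul_iff_algebraMap_injective (SGA1.kummerAlg R t n') _).mpr (by
      rw [AdjoinRoot.algebraMap_eq']
      exact (AdjoinRoot.of (X ^ p - C τ : N[X])).injective.comp
        (FaithfulSMul.algebraMap_injective (SGA1.kummerAlg R t n') N))
  have hBN' : ∀ b : SGA1.kummerAlg R t n',
      algebraMap (SGA1.kummerAlg R t n') (AdjoinRoot (X ^ p - C τ : N[X])) b =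
        algebraMap N (AdjoinRoot (X ^ p - C τ : N[X])) (algebraMap _ N b) := fun _ => rfl
  obtain ⟨i₁, hi₁⟩ : ∃ i₁ : L →+* AdjoinRoot (X ^ p - C τ : N[X]),
      i₁ = (algebraMap N (AdjoinRoot (X ^ p - C τ : N[X]))).comp i := ⟨_, rfl⟩
  have hcompat₁ : ∀ a : R, i₁ (algebraMap R L a) =
      algebraMap (SGA1.kummerAlg R t n') (AdjoinRoot (X ^ p - C τ : N[X]))
        (algebraMap R (SGA1.kummerAlg R t n') a) := by
    intro a
    rw [hi₁, RingHom.comp_apply, hcompat, hBN']
  have hS : (AdjoinRoot.root (X ^ p - C τ : N[X])) ^ p =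
      algebraMap (SGA1.kummerAlg R t n') (AdjoinRoot (X ^ p - C τ : N[X])) (T t n' j₀) := by
    have h1 : AdjoinRoot.mk (X ^ p - C τ : N[X]) (X ^ p - C τ : N[X]) = 0 := AdjoinRoot.mk_self
    rw [map_sub, map_pow, AdjoinRoot.mk_X, AdjoinRoot.mk_C, sub_eq_zero] at h1
    rw [h1, hBN', ← hτ]
    rfl
  have hgen₁ : ∀ E : Subfield (AdjoinRoot (X ^ p - C τ : N[X])), Set.range i₁ ⊆ E →
      Set.range (algebraMap (SGA1.kummerAlg R t n') (AdjoinRoot (X ^ p - C τ : N[X]))) ⊆ E →
      AdjoinRoot.root (X ^ p - C τ : N[X]) ∈ E → E = ⊤ := by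
    intro E h1 h2 h3
    have hcomap := hgen (E.comap (algebraMap N (AdjoinRoot (X ^ p - C τ : N[X]))))
      (by
        rintro _ ⟨l, rfl⟩
        show algebraMap N _ (i l) ∈ E
        apply h1
        exact ⟨l, by rw [hi₁]; rfl⟩)
      (by
        rintro _ ⟨b, rfl⟩
        show algebraMap N _ (algebraMap _ N b) ∈ E
        exact h2 ⟨b, rfl⟩)
    have hN : ∀ y : N, algebraMap N (AdjoinRoot (X ^ p - C τ : N[X])) y ∈ E := by
      intro y
      have hy : y ∈ E.comap (algebraMap N (AdjoinRoot (X ^ p - C τ : N[X]))) := by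
        rw [hcomap]
        trivial
      exact hy
    rw [eq_top_iff]
    intro z _
    induction z using AdjoinRoot.induction_on with
    | ih q =>
      rw [← AdjoinRoot.aeval_eq, Polynomial.aeval_eq_sum_range]
      refine sum_mem (fun k _ => ?_)
      rw [Algebra.smul_def]
      exact mul_mem (hN _) (pow_mem h3 k)
  obtain ⟨j', hj'R, hj'T, hj'T', hfrac'⟩ := E_construct R t hm hf n' hn' p hp.out.one_le j₀ L hT
    (AdjoinRoot (X ^ p - C τ : N[X])) i₁ hcompat₁ (AdjoinRoot.root _) hS hgen₁
  -- the degree argument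
  letI algKN : Algebra (FractionRing (SGA1.kummerAlg R t n')) N :=
    FractionRing.liftAlgebra (SGA1.kummerAlg R t n') N
  haveI : IsScalarTower (SGA1.kummerAlg R t n') (FractionRing (SGA1.kummerAlg R t n')) N :=
    FractionRing.isScalarTower_liftAlgebra _ N
  haveI : FiniteDimensional (FractionRing (SGA1.kummerAlg R t n')) N := hG'.fin
  haveI towKNN' : IsScalarTower (FractionRing (SGA1.kummerAlg R t n')) N
      (AdjoinRoot (X ^ p - C τ : N[X])) := IsScalarTower.of_algebraMap_eq (fun _ => rfl)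
  haveI towBKN' : @IsScalarTower (SGA1.kummerAlg R t n') (FractionRing (SGA1.kummerAlg R t n'))
      (AdjoinRoot (X ^ p - C τ : N[X])) Algebra.toSMul Algebra.toSMul Algebra.toSMul := by
    apply IsScalarTower.of_algebraMap_eq
    intro b
    have e1 : algebraMap (SGA1.kummerAlg R t n') (AdjoinRoot (X ^ p - C τ : N[X])) b =
        AdjoinRoot.of (X ^ p - C τ : N[X]) (algebraMap (SGA1.kummerAlg R t n') N b) := rfl
    have e2 : algebraMap (FractionRing (SGA1.kummerAlg R t n')) (AdjoinRoot (X ^ p - C τ : N[X]))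
        (algebraMap (SGA1.kummerAlg R t n') (FractionRing (SGA1.kummerAlg R t n')) b) =
        AdjoinRoot.of (X ^ p - C τ : N[X]) (algebraMap (FractionRing (SGA1.kummerAlg R t n')) N
          (algebraMap (SGA1.kummerAlg R t n') (FractionRing (SGA1.kummerAlg R t n')) b)) := rfl
    rw [e1, e2, ← IsScalarTower.algebraMap_apply (SGA1.kummerAlg R t n')
        (FractionRing (SGA1.kummerAlg R t n')) N]
  have hdegf : (X ^ p - C τ : N[X]).natDegree = p := natDegree_X_pow_sub_C
  have h1 : Module.finrank N (AdjoinRoot (X ^ p - C τ : N[X])) = p := by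
    rw [(AdjoinRoot.powerBasis hf0).finrank, AdjoinRoot.powerBasis_dim, hdegf]
  haveI : FiniteDimensional N (AdjoinRoot (X ^ p - C τ : N[X])) :=
    (AdjoinRoot.powerBasis hf0).finite
  haveI : FiniteDimensional (FractionRing (SGA1.kummerAlg R t n'))
      (AdjoinRoot (X ^ p - C τ : N[X])) := FiniteDimensional.trans _ N _
  have h2 : Module.finrank (FractionRing (SGA1.kummerAlg R t n')) N *
      Module.finrank N (AdjoinRoot (X ^ p - C τ : N[X])) =
      Module.finrank (FractionRing (SGA1.kummerAlg R t n')) (AdjoinRoot (X ^ p - C τ : N[X])) :=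
    Module.finrank_mul_finrank _ N _
  have hSK : aeval (AdjoinRoot.root (X ^ p - C τ : N[X]))
      (X ^ p - C (algebraMap (SGA1.kummerAlg R t n') (FractionRing (SGA1.kummerAlg R t n'))
        (T t n' j₀)) : (FractionRing (SGA1.kummerAlg R t n'))[X]) = 0 := by
    rw [map_sub, map_pow, aeval_X, aeval_C, hS, ← IsScalarTower.algebraMap_apply]
    exact sub_self _
  have hSint : IsIntegral (FractionRing (SGA1.kummerAlg R t n'))
      (AdjoinRoot.root (X ^ p - C τ : N[X])) := IsIntegral.of_finite _ _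
  have h3 : (minpoly (FractionRing (SGA1.kummerAlg R t n'))
      (AdjoinRoot.root (X ^ p - C τ : N[X]))).natDegree ≤ p := by
    have := Polynomial.natDegree_le_of_dvd (minpoly.dvd _ _ hSK)
      (X_pow_sub_C_ne_zero hp.out.pos _)
    rwa [natDegree_X_pow_sub_C] at this
  have htop : (FractionRing (SGA1.kummerAlg R t n'))⟮AdjoinRoot.root (X ^ p - C τ : N[X])⟯ = ⊤ := by
    rw [eq_top_iff]
    intro z _
    obtain ⟨a, b, hb, hz⟩ := hfrac' z
    have hmem : ∀ c, j' c ∈
        (FractionRing (SGA1.kummerAlg R t n'))⟮AdjoinRoot.root (X ^ p - C τ : N[X])⟯ := by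
      intro c
      induction c using kummer_induction with
      | hC a =>
        rw [hj'R, IsScalarTower.algebraMap_apply (SGA1.kummerAlg R t n')
          (FractionRing (SGA1.kummerAlg R t n')) (AdjoinRoot (X ^ p - C τ : N[X]))]
        exact IntermediateField.algebraMap_mem _ _
      | hadd x y hx hy =>
        rw [map_add]
        exact add_mem hx hy
      | hmul x j hx =>
        rw [map_mul]
        apply mul_mem hx
        by_cases hj : j = j₀
        · subst hj
          rw [hj'T]
          exact IntermediateField.mem_adjoin_simple_self _ _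
        · rw [hj'T' j hj, IsScalarTower.algebraMap_apply (SGA1.kummerAlg R t n')
            (FractionRing (SGA1.kummerAlg R t n')) (AdjoinRoot (X ^ p - C τ : N[X]))]
          exact IntermediateField.algebraMap_mem _ _
    have hzeq : z = j' a / j' b := eq_div_of_mul_eq hb hz
    rw [hzeq]
    exact div_mem (hmem a) (hmem b)
  have h4 : Module.finrank (FractionRing (SGA1.kummerAlg R t n'))
      (AdjoinRoot (X ^ p - C τ : N[X])) ≤ p := by
    rw [← IntermediateField.finrank_top', ← htop, IntermediateField.adjoin.finrank hSint]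
    exact h3
  have h5 : 0 < Module.finrank (FractionRing (SGA1.kummerAlg R t n')) N := Module.finrank_pos
  have h6 : Module.finrank (FractionRing (SGA1.kummerAlg R t n')) N = 1 := by
    rw [h1] at h2
    have hp0 := hp.out.pos
    have : Module.finrank (FractionRing (SGA1.kummerAlg R t n')) N * p ≤ 1 * p := by
      rw [h2, one_mul]
      exact h4
    have := Nat.le_of_mul_le_mul_right this hp0
    omega
  have h7 : (⊥ : IntermediateField (FractionRing (SGA1.kummerAlg R t n')) N) = ⊤ :=
    IntermediateField.bot_eq_top_iff_finrank_eq_one.mpr h6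
  intro x
  have hx : x ∈ (⊥ : IntermediateField (FractionRing (SGA1.kummerAlg R t n')) N) := by
    rw [h7]
    trivial
  obtain ⟨k, rfl⟩ := IntermediateField.mem_bot.mp hx
  obtain ⟨a, b, hb, rfl⟩ := IsFractionRing.div_surjective (A := SGA1.kummerAlg R t n') k
  refine ⟨a, b, nonZeroDivisors.ne_zero hb, ?_⟩
  have hb0 : algebraMap (SGA1.kummerAlg R t n') N b ≠ 0 := by
    rw [Ne, map_eq_zero_iff _ (FaithfulSMul.algebraMap_injective _ N)]
    exact nonZeroDivisors.ne_zero hb
  rw [map_div₀, ← IsScalarTower.algebraMap_apply, ← IsScalarTower.algebraMap_apply,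
    div_mul_cancel₀ _ hb0]

end Case2

section LemmaE

variable (R : Type u) [CommRing R] [IsRegularLocalRing R] [IsDomain R] {r : ℕ} (t : Fin r → R)
  (hm : ∀ i, t i ∈ maximalIdeal R)
  (hf : LinearIndependent (ResidueField R) (fun i => (maximalIdeal R).toCotangent ⟨t i, hm i⟩))
  (n' : Fin r → ℕ) (hn' : ∀ i, 1 ≤ n' i) (p : ℕ) [hp : Fact p.Prime]
  (hpm : (p : R) ∈ maximalIdeal R) (j₀ : Fin r)
  (hpj : (p : R) ∉ Ideal.span ({t j₀} : Set R))
  (L : Type u) [Field L] [Algebra R L] [FaithfulSMul R L]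

include hm hf hn' hpm hpj in
/-- **Lemma E**: an exponent can be divided by the residue characteristic `p` at an index `j₀`
with `p ∉ (t_{j₀})`. -/
theorem lemmaE (hG : Good R t L) (hT : Triv R t (updExp n' p j₀) L) : Triv R t n' L := by
  intro N _ _ _ i hcompat hgen x
  by_cases hroot : ∃ S : N, S ^ p = algebraMap (SGA1.kummerAlg R t n') N (T t n' j₀)
  · obtain ⟨S, hS⟩ := hroot
    exact (lemmaE_case1 R t hm hf n' hn' p hpm j₀ hpj L hT N i hcompat hgen hG S hS).elim
  · rw [not_exists] at hroot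
    exact lemmaE_case2 R t hm hf n' hn' p j₀ L hT N i hcompat hgen hG hroot x

end LemmaE

end Groth.Agent.Lib.Helper9.AbhAbs
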