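import Mathlib
import Groth.Prelude.Def_EtRam
import Groth.Prelude.Def_SGA1
import Groth.Agent.Lib.Helper9.AbhAbs.PPartE3

/-!
# Theorem I: tame extensions are absorbed by Kummer extensions with invertible exponents
(helper9)
-/

universe u

open IsLocalRing EtRam Polynomial

namespace Groth.Agent.Lib.Helper9.AbhAbs

open Groth.Agent.Lib.Helper9.KummerTame Groth.Agent.Lib.Helper9.AbhyankarCore

section RemoveP

variable (R : Type u) [CommRing R] [IsRegularLocalRing R] [IsDomain R] {r : ℕ} (t : Fin r → R)
  (hm : ∀ i, t i ∈ maximalIdeal R)
  (hf : LinearIndependent (ResidueField R) (fun i => (maximalIdeal R).toCotangent ⟨t i, hm i⟩))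
  (p : ℕ) [hp : Fact p.Prime] (hpm : (p : R) ∈ maximalIdeal R)
  (L : Type u) [Field L] [Algebra R L] [FaithfulSMul R L]

include hm hf hpm in
theorem remove_p (hG : Good R t L) :
    ∀ (s : ℕ) (n : Fin r → ℕ), (∑ j, n j = s) → (∀ j, 1 ≤ n j) →
      (∀ j, p ∣ n j → (p : R) ∉ Ideal.span ({t j} : Set R)) → Triv R t n L →
      ∃ m : Fin r → ℕ, (∀ j, 1 ≤ m j) ∧ (∀ j, ¬ p ∣ m j) ∧ Triv R t m L := by
  intro s
  induction s using Nat.strong_induction_on with
  | _ s ih =>
    intro n hs hn hinv hT
    by_cases hall : ∀ j, ¬ p ∣ n j
    · exact ⟨n, hn, hall, hT⟩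
    · rw [not_forall] at hall
      obtain ⟨j₀, hj₀⟩ := hall
      rw [not_not] at hj₀
      obtain ⟨k, hk⟩ := hj₀
      have hk1 : 1 ≤ k := by
        have := hn j₀
        rw [hk] at this
        exact Nat.pos_of_ne_zero (fun h0 => by rw [h0, mul_zero] at this; omega)
      have hupd : n = updExp (Function.update n j₀ k) p j₀ := by
        funext j
        by_cases hj : j = j₀
        · subst hj
          rw [updExp_self, Function.update_self, hk]
        · rw [updExp_ne _ p hj, Function.update_of_ne hj]
      have hn' : ∀ j, 1 ≤ Function.update n j₀ k j := by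
        intro j
        by_cases hj : j = j₀
        · subst hj
          rw [Function.update_self]
          exact hk1
        · rw [Function.update_of_ne hj]
          exact hn j
      have hT' : Triv R t (Function.update n j₀ k) L := by
        apply lemmaE R t hm hf _ hn' p hpm j₀ (hinv j₀ ⟨k, hk⟩) L hG
        rw [← hupd]
        exact hT
      have hlt : ∑ j, Function.update n j₀ k j < s := by
        rw [← hs]
        apply Finset.sum_lt_sum
        · intro j _
          by_cases hj : j = j₀
          · subst hj
            rw [Function.update_self, hk]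
            exact Nat.le_mul_of_pos_left k hp.out.pos
          · rw [Function.update_of_ne hj]
        · refine ⟨j₀, Finset.mem_univ _, ?_⟩
          rw [Function.update_self, hk]
          have := hp.out.two_le
          nlinarith
      refine ih _ hlt _ rfl hn' ?_ hT'
      intro j hpj
      by_cases hj : j = j₀
      · subst hj
        exact hinv j ⟨k, hk⟩
      · rw [Function.update_of_ne hj] at hpj
        exact hinv j hpj

end RemoveP

section TheoremI

variable (R : Type u) [CommRing R] [IsRegularLocalRing R] [IsDomain R] [HenselianLocalRing R]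
  [IsSepClosed (ResidueField R)] {r : ℕ} (t : Fin r → R)
  (hm : ∀ i, t i ∈ maximalIdeal R)
  (hf : LinearIndependent (ResidueField R) (fun i => (maximalIdeal R).toCotangent ⟨t i, hm i⟩))
  (L : Type u) [Field L] [Algebra R L] [FaithfulSMul R L]

include hm hf in
set_option maxHeartbeats 1000000 in
/-- **Theorem I**: over a strictly henselian regular local ring, a good extension is absorbed by
a Kummer extension with exponents invertible in the residue field. -/
theorem theoremI (hG : Good R t L) :
    ∃ m : Fin r → ℕ, (∀ j, 1 ≤ m j) ∧ (∀ j, IsUnit ((m j : ℕ) : ResidueField R)) ∧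
      Triv R t m L := by
  classical
  have hprime : ∀ j, (Ideal.span ({t j} : Set R)).IsPrime :=
    fun j => span_singleton_isPrime_of_linearIndependent t hm hf j
  have hdvr : ∀ j, IsDiscreteValuationRing (Localization.AtPrime (Ideal.span ({t j} : Set R))) := by
    intro j
    haveI := hprime j
    exact isDVR_of_height_eq_one R _
      (height_span_singleton _ (ne_zero_of_linearIndependent t hm hf j))
  have hex : ∀ j, ∃ e₀ : ℕ, 0 < e₀ ∧
      (haveI := hprime j
       (e₀ : ResidueField (Localization.AtPrime (Ideal.span ({t j} : Set R)))) ≠ 0) ∧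
      (haveI := hprime j
       ∀ (V : ValuationSubring L)
        (hdom : Dominates (Localization.AtPrime (Ideal.span ({t j} : Set R)))
          (locLift R L (Ideal.span ({t j} : Set R))) V),
        eV (locLift R L (Ideal.span ({t j} : Set R))) V hdom ∣ e₀) := by
    intro j
    haveI := hprime j
    haveI := hdvr j
    exact exists_mult R (Ideal.span ({t j} : Set R)) L hG.fin hG.sep (hG.tame j)
  choose n hn0 hnres hndvd using hex
  have hn : ∀ j, 1 ≤ n j := hn0
  have hT : Triv R t n L :=
    triv_of_dvd R t hm hf n hn L hG (fun j _ V hdom => hndvd j V hdom)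
  rcases CharP.char_is_prime_or_zero (ResidueField R) (ringChar (ResidueField R)) with hpr | h0
  · -- positive residue characteristic
    obtain ⟨p, hpdef⟩ : ∃ p, p = ringChar (ResidueField R) := ⟨_, rfl⟩
    rw [← hpdef] at hpr
    haveI : Fact p.Prime := ⟨hpr⟩
    haveI hchar : CharP (ResidueField R) p := by
      rw [hpdef]
      infer_instance
    have hpm : (p : R) ∈ maximalIdeal R := by
      rw [← residue_eq_zero_iff, map_natCast]
      exact CharP.cast_eq_zero _ p
    have hinv : ∀ j, p ∣ n j → (p : R) ∉ Ideal.span ({t j} : Set R) := by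
      intro j hpj hmem
      haveI := hprime j
      apply hnres j
      obtain ⟨k, hk⟩ := hpj
      rw [hk, Nat.cast_mul]
      have h1 : (p : Localization.AtPrime (Ideal.span ({t j} : Set R))) ∈
          maximalIdeal (Localization.AtPrime (Ideal.span ({t j} : Set R))) := by
        have h2 : algebraMap R (Localization.AtPrime (Ideal.span ({t j} : Set R))) (p : R) ∈
            maximalIdeal (Localization.AtPrime (Ideal.span ({t j} : Set R))) :=
          (IsLocalization.AtPrime.to_map_mem_maximal_iff _ (Ideal.span ({t j} : Set R)) _).mpr hmem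
        rwa [map_natCast] at h2
      have h3 : ((p : ℕ) : ResidueField (Localization.AtPrime (Ideal.span ({t j} : Set R)))) = 0 := by
        rw [← map_natCast (residue (Localization.AtPrime (Ideal.span ({t j} : Set R)))),
          residue_eq_zero_iff]
        exact h1
      rw [h3, zero_mul]
    obtain ⟨m, hm1, hm2, hm3⟩ := remove_p R t hm hf p hpm L hG _ n rfl hn hinv hT
    refine ⟨m, hm1, fun j => ?_, hm3⟩
    rw [isUnit_iff_ne_zero, Ne, CharP.cast_eq_zero_iff (ResidueField R) p]
    exact hm2 j
  · -- residue characteristic zero
    haveI : CharZero (ResidueField R) := by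
      rw [← CharP.ringChar_zero_iff_CharZero]
      exact h0
    refine ⟨n, hn, fun j => ?_, hT⟩
    rw [isUnit_iff_ne_zero]
    exact Nat.cast_ne_zero.mpr (by have := hn j; omega)

end TheoremI

end Groth.Agent.Lib.Helper9.AbhAbs
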